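import Mathlib

set_option autoImplicit false
universe u
open Polynomial IntermediateField

namespace Groth.Agent.H5.NrmNormal

lemma alg_intNorm {A B K L : Type u} [CommRing A] [IsDomain A] [CommRing B] [IsDomain B]
    [Field K] [Field L] [Algebra A B] [Algebra A K] [Algebra B L] [Algebra K L] [Algebra A L]
    [IsScalarTower A K L] [IsScalarTower A B L] [IsFractionRing A K] [IsIntegrallyClosed A]
    [Module.Finite A B] [FiniteDimensional K L] :
    ∃ N : B →* A, (∀ b, algebraMap A K (N b) = Algebra.norm K (algebraMap B L b)) ∧
      (∀ b, IsUnit (N b) → IsUnit b) := by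
  have hintB : ∀ b : B, IsIntegral A (algebraMap B L b) := fun b =>
    (Algebra.IsIntegral.isIntegral (R := A) b).map (IsScalarTower.toAlgHom A B L)
  have hint : ∀ b : B, IsIntegral A (Algebra.norm K (algebraMap B L b)) := fun b =>
    Algebra.isIntegral_norm K (hintB b)
  choose N hN using fun b => IsIntegrallyClosed.algebraMap_eq_of_integral (hint b)
  have inj := IsFractionRing.injective A K
  let Nh : B →* A :=
    { toFun := N
      map_one' := inj (by rw [hN, map_one, map_one, map_one])
      map_mul' := fun x y => inj (by rw [hN, map_mul, map_mul, map_mul, hN, hN]) }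
  refine ⟨Nh, hN, fun b hu => ?_⟩
  have hb : IsIntegral A b := Algebra.IsIntegral.isIntegral b
  set q := minpoly A b with hq
  set β := algebraMap B L b with hβ
  have hmin : minpoly K β = q.map (algebraMap A K) :=
    minpoly.isIntegrallyClosed_eq_field_fractions K L hb
  have hβK : IsIntegral K β := (hintB b).tower_top
  set m := Module.finrank K⟮β⟯ L with hm
  have hm0 : m ≠ 0 := (Module.finrank_pos).ne'
  have h1 : Algebra.norm K β = Algebra.norm K (AdjoinSimple.gen K β) ^ m :=
    Algebra.norm_eq_norm_adjoin K β
  have h2 : Algebra.norm K (AdjoinSimple.gen K β) =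
      (-1) ^ (adjoin.powerBasis hβK).dim * (minpoly K β).coeff 0 := by
    have := Algebra.PowerBasis.norm_gen_eq_coeff_zero_minpoly (adjoin.powerBasis hβK)
    rw [adjoin.powerBasis_gen, minpoly_gen] at this
    exact this
  set n := (adjoin.powerBasis hβK).dim with hn
  have h3 : Nh b = ((-1) ^ n * q.coeff 0) ^ m := by
    apply inj
    show algebraMap A K (N b) = _
    rw [hN, h1, h2, hmin, coeff_map]
    simp
  rw [h3] at hu
  have hu2 : IsUnit (q.coeff 0) := by
    have := (isUnit_pow_iff hm0).mp hu
    exact (IsUnit.mul_iff.mp this).2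
  have hq0 : aeval b q = 0 := minpoly.aeval A b
  have hdiv : q.divX * X + C (q.coeff 0) = q := divX_mul_X_add q
  have h4 : aeval b q.divX * b + algebraMap A B (q.coeff 0) = 0 := by
    rw [← hq0]
    conv_rhs => rw [← hdiv]
    simp
  have h5 : b * (-(aeval b q.divX)) = algebraMap A B (q.coeff 0) := by
    linear_combination (-1 : B) * h4
  have h6 : IsUnit (b * (-(aeval b q.divX))) := by
    rw [h5]; exact hu2.map _
  exact isUnit_of_mul_isUnit_left h6


open scoped nonZeroDivisors in
lemma finiteDimensional_of_finite {A B K L : Type u} [CommRing A] [IsDomain A] [CommRing B]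
    [IsDomain B] [Field K] [Field L] [Algebra A B] [Algebra A K] [Algebra B L] [Algebra K L]
    [Algebra A L] [IsScalarTower A K L] [IsScalarTower A B L] [IsFractionRing A K]
    [IsFractionRing B L] [Module.Finite A B] [FaithfulSMul A B] : FiniteDimensional K L := by
  haveI : Algebra.IsAlgebraic A B := Algebra.IsIntegral.isAlgebraic
  haveI : IsLocalization (Algebra.algebraMapSubmonoid B A⁰) L := inferInstance
  exact Module.Finite.of_isLocalization A B A⁰

end Groth.Agent.H5.NrmNormal
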