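import Groth.Agent.Lib.Helper5.Nrm.D
import Groth.Agent.Lib.Helper5.Nrm.F0
import Groth.Agent.Lib.Helper5.AG.NormalAffine
import Groth.Statements.S8881

set_option autoImplicit false
set_option linter.style.haveILetI false
universe u
open CategoryTheory CategoryTheory.Limits AlgebraicGeometry TopologicalSpace Opposite
open SDiv

namespace Groth.Agent.H5.NrmNormal

open Groth.Agent.H5.NrmGlue

variable {X Y : Scheme.{u}} [IsIntegral X] [IsIntegral Y] (π : X ⟶ Y)

theorem map_genericPoint [IsDominant π] : π.base (genericPoint X) = genericPoint Y := by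
  apply ((genericPoint_spec Y).eq _).symm
  have h := (genericPoint_spec X).image π.continuous
  have h2 : closure (π.base '' (Set.univ : Set X)) = (Set.univ : Set Y) := by
    rw [Set.image_univ]
    exact π.denseRange.closure_range
  rw [h2] at h
  exact h

variable (hgen : π.base (genericPoint X) = genericPoint Y)

/-- The induced map of function fields. -/
noncomputable def sig : Y.functionField ⟶ X.functionField :=
  (Y.presheaf.stalkCongr (Inseparable.of_eq hgen)).inv ≫ π.stalkMap (genericPoint X)

include hgen in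
lemma mem_preimage (U : Y.Opens) [h : Nonempty U] : genericPoint X ∈ π ⁻¹ᵁ U := by
  show π.base (genericPoint X) ∈ U
  rw [hgen]
  exact ((genericPoint_spec Y).mem_open_set_iff U.isOpen).mpr (by simpa using h)

include hgen in
lemma nonempty_preimage (U : Y.Opens) [Nonempty U] : Nonempty (π ⁻¹ᵁ U) :=
  ⟨⟨_, mem_preimage π hgen U⟩⟩

lemma sig_comp (U : Y.Opens) [Nonempty U] :
    Y.germToFunctionField U ≫ sig π hgen =
      π.app U ≫ X.presheaf.germ (π ⁻¹ᵁ U) (genericPoint X) (mem_preimage π hgen U) := by
  change Y.presheaf.germ U _ _ ≫ Y.presheaf.stalkSpecializes (Inseparable.of_eq hgen).le ≫ _ = _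
  rw [← Category.assoc, TopCat.Presheaf.germ_stalkSpecializes, Scheme.Hom.germ_stalkMap]


section withAlgebra

variable [Algebra Y.functionField X.functionField]
  (hσ : ∀ (U : Y.Opens) [Nonempty U] (g : Γ(Y, U)),
    algebraMap Y.functionField X.functionField (Y.germToFunctionField U g) =
      X.presheaf.germ (π ⁻¹ᵁ U) (genericPoint X) (mem_preimage π hgen U) (π.app U g))

include hσ in
lemma app_injective (W : Y.Opens) [Nonempty W] : Function.Injective (π.app W).hom := by
  intro a a' haa
  apply Y.germToFunctionField_injective W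
  apply (algebraMap Y.functionField X.functionField).injective
  rw [hσ W a, hσ W a']
  exact congrArg _ haa

include hσ in
lemma exists_localNorm [IsFinite π] (hY : Pi1.IsNormalScheme Y)
    [FiniteDimensional Y.functionField X.functionField]
    (W : Y.Opens) (hW : IsAffineOpen W) [Nonempty W] :
    ∃ N : Γ(X, π ⁻¹ᵁ W) →* Γ(Y, W),
      (∀ b, Y.germToFunctionField W (N b) = Algebra.norm Y.functionField
        ((X.presheaf.germ (π ⁻¹ᵁ W) (genericPoint X) (mem_preimage π hgen W)).hom b)) ∧
      (∀ b, IsUnit (N b) → IsUnit b) := by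
  haveI := nonempty_preimage π hgen W
  letI : Algebra Γ(Y, W) Γ(X, π ⁻¹ᵁ W) := (π.app W).hom.toAlgebra
  letI : Algebra Γ(Y, W) X.functionField :=
    ((algebraMap Y.functionField X.functionField).comp
      (algebraMap Γ(Y, W) Y.functionField)).toAlgebra
  haveI : IsScalarTower Γ(Y, W) Y.functionField X.functionField :=
    IsScalarTower.of_algebraMap_eq (fun _ => rfl)
  haveI : IsScalarTower Γ(Y, W) Γ(X, π ⁻¹ᵁ W) X.functionField :=
    IsScalarTower.of_algebraMap_eq (fun a => hσ W a)
  haveI : IsFractionRing Γ(Y, W) Y.functionField :=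
    functionField_isFractionRing_of_isAffineOpen Y W hW
  haveI : IsIntegrallyClosed Γ(Y, W) := (Groth.Agent.H5.AG.isNormalScheme_iff_affine Y).mp hY W hW
  haveI : Module.Finite Γ(Y, W) Γ(X, π ⁻¹ᵁ W) := π.finite_app W hW
  exact alg_intNorm (A := Γ(Y, W)) (B := Γ(X, π ⁻¹ᵁ W)) (K := Y.functionField)
    (L := X.functionField)

include hσ in
lemma finiteDimensional_aux [IsFinite π] (W : Y.Opens) (hW : IsAffineOpen W) [Nonempty W] :
    FiniteDimensional Y.functionField X.functionField := by
  haveI := nonempty_preimage π hgen W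
  letI : Algebra Γ(Y, W) Γ(X, π ⁻¹ᵁ W) := (π.app W).hom.toAlgebra
  letI : Algebra Γ(Y, W) X.functionField :=
    ((algebraMap Y.functionField X.functionField).comp
      (algebraMap Γ(Y, W) Y.functionField)).toAlgebra
  haveI : IsScalarTower Γ(Y, W) Y.functionField X.functionField :=
    IsScalarTower.of_algebraMap_eq (fun _ => rfl)
  haveI : IsScalarTower Γ(Y, W) Γ(X, π ⁻¹ᵁ W) X.functionField :=
    IsScalarTower.of_algebraMap_eq (fun a => hσ W a)
  haveI : IsFractionRing Γ(Y, W) Y.functionField :=
    functionField_isFractionRing_of_isAffineOpen Y W hW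
  haveI : IsFractionRing Γ(X, π ⁻¹ᵁ W) X.functionField :=
    functionField_isFractionRing_of_isAffineOpen X (π ⁻¹ᵁ W) (hW.preimage π)
  haveI : Module.Finite Γ(Y, W) Γ(X, π ⁻¹ᵁ W) := π.finite_app W hW
  haveI : FaithfulSMul Γ(Y, W) Γ(X, π ⁻¹ᵁ W) :=
    (faithfulSMul_iff_algebraMap_injective _ _).mpr (app_injective π hgen hσ W)
  exact finiteDimensional_of_finite (A := Γ(Y, W)) (B := Γ(X, π ⁻¹ᵁ W)) (K := Y.functionField)
    (L := X.functionField)


variable [IsFinite π] (hY : Pi1.IsNormalScheme Y)
  [FiniteDimensional Y.functionField X.functionField]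

/-- The local norm on a nonempty affine open. -/
noncomputable def nW (W : Y.Opens) (hW : IsAffineOpen W) [Nonempty W] :
    Γ(X, π ⁻¹ᵁ W) →* Γ(Y, W) :=
  (exists_localNorm π hgen hσ hY W hW).choose

lemma nW_spec (W : Y.Opens) (hW : IsAffineOpen W) [Nonempty W] (b : Γ(X, π ⁻¹ᵁ W)) :
    Y.germToFunctionField W (nW π hgen hσ hY W hW b) = Algebra.norm Y.functionField
      ((X.presheaf.germ (π ⁻¹ᵁ W) (genericPoint X) (mem_preimage π hgen W)).hom b) :=
  (exists_localNorm π hgen hσ hY W hW).choose_spec.1 b

lemma nW_unit (W : Y.Opens) (hW : IsAffineOpen W) [Nonempty W] (b : Γ(X, π ⁻¹ᵁ W))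
    (h : IsUnit (nW π hgen hσ hY W hW b)) : IsUnit b :=
  (exists_localNorm π hgen hσ hY W hW).choose_spec.2 b h

/-- The local norm data. -/
noncomputable def localNorm :
    LocalNorm π (Module.finrank Y.functionField X.functionField) where
  B := {W | IsAffineOpen W ∧ Nonempty W}
  basis := fun U y hy => by
    obtain ⟨_, ⟨W, hW, rfl⟩, hyW, hWU⟩ :=
      Y.isBasis_affineOpens.exists_subset_of_mem_open hy U.2
    exact ⟨W, ⟨hW, ⟨⟨y, hyW⟩⟩⟩, hyW, hWU⟩
  n := fun W hW => haveI := hW.2; nW π hgen hσ hY W hW.1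
  res := by
    intro W W' hW hW' i s
    haveI := hW.2
    haveI := hW'.2
    apply Y.germToFunctionField_injective W'
    have e1 : ∀ t : Γ(Y, W), Y.germToFunctionField W' (Y.presheaf.map i.op t) =
        Y.germToFunctionField W t := fun t => Y.presheaf.germ_res_apply i _ _ t
    have e2 : (X.presheaf.germ (π ⁻¹ᵁ W') (genericPoint X) (mem_preimage π hgen W')).hom
        (X.presheaf.map ((Opens.map π.base).map i).op s) =
        (X.presheaf.germ (π ⁻¹ᵁ W) (genericPoint X) (mem_preimage π hgen W)).hom s :=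
      X.presheaf.germ_res_apply ((Opens.map π.base).map i) _ _ s
    show Y.germToFunctionField W' (Y.presheaf.map i.op (nW π hgen hσ hY W hW.1 s)) =
      Y.germToFunctionField W' (nW π hgen hσ hY W' hW'.1 _)
    rw [e1, nW_spec, nW_spec, e2]
  app := by
    intro W hW g
    haveI := hW.2
    apply Y.germToFunctionField_injective W
    show Y.germToFunctionField W (nW π hgen hσ hY W hW.1 (π.app W g)) = _
    rw [nW_spec, map_pow]
    have := hσ W g
    show Algebra.norm Y.functionField
      ((X.presheaf.germ (π ⁻¹ᵁ W) (genericPoint X) (mem_preimage π hgen W)) (π.app W g)) = _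
    rw [← this, Algebra.norm_algebraMap]
  unit := by
    intro W hW s h
    haveI := hW.2
    exact nW_unit π hgen hσ hY W hW.1 s h

end withAlgebra

theorem main (π : X ⟶ Y) [IsFinite π] [Surjective π] (hY : Pi1.IsNormalScheme Y) :
    ∃ d : ℕ, Nrm.HasNorm π d := by
  have hgen : π.base (genericPoint X) = genericPoint Y := map_genericPoint π
  letI : Algebra Y.functionField X.functionField := (sig π hgen).hom.toAlgebra
  have hσ : ∀ (U : Y.Opens) [Nonempty U] (g : Γ(Y, U)),
      algebraMap Y.functionField X.functionField (Y.germToFunctionField U g) =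
        X.presheaf.germ (π ⁻¹ᵁ U) (genericPoint X) (mem_preimage π hgen U) (π.app U g) := by
    intro U _ g
    have := sig_comp π hgen U
    exact congr($this g)
  obtain ⟨W, hW, hne⟩ : ∃ W : Y.Opens, IsAffineOpen W ∧ Nonempty W := by
    obtain ⟨_, ⟨W, hW, rfl⟩, hyW, -⟩ :=
      Y.isBasis_affineOpens.exists_subset_of_mem_open (Set.mem_univ (genericPoint Y)) isOpen_univ
    exact ⟨W, hW, ⟨⟨_, hyW⟩⟩⟩
  haveI : FiniteDimensional Y.functionField X.functionField :=
    finiteDimensional_aux π hgen hσ W hW
  refine ⟨Module.finrank Y.functionField X.functionField, ?_⟩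
  exact hasNorm (localNorm π hgen hσ hY) Module.finrank_pos

end Groth.Agent.H5.NrmNormal
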