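import Groth.Agent.Lib.Helper5.Nrm.G
import Groth.Agent.Lib.Helper5.Nrm.F
import Groth.Agent.Lib.Helper5.AlgSp.RedInduced
import Groth.Statements.S8860

set_option autoImplicit false
set_option linter.style.haveILetI false
universe u
open CategoryTheory CategoryTheory.Limits AlgebraicGeometry TopologicalSpace Opposite
open SDiv

namespace Groth.Agent.H5.NrmQA2

variable {X Y : Scheme.{u}}

/-- the reduced induced structure on the closure of a point is integral -/
lemma isIntegral_closure_point (x : X) :
    IsIntegral (Scheme.IdealSheafData.vanishingIdeal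
      (⟨closure {x}, isClosed_closure⟩ : Closeds X)).subscheme := by
  set Z : Closeds X := ⟨closure {x}, isClosed_closure⟩ with hZ
  set I := Scheme.IdealSheafData.vanishingIdeal Z with hI
  haveI : IsReduced I.subscheme := Groth.Agent.H5.AlgSp.isReduced_subscheme_vanishingIdeal Z
  have hrange : Set.range I.subschemeι = closure {x} := by
    rw [I.range_subschemeι, hI, Scheme.IdealSheafData.coe_support_vanishingIdeal]
    rfl
  have hirr : IsIrreducible (closure ({x} : Set X)) := isIrreducible_singleton.closure
  haveI : IrreducibleSpace I.subscheme := by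
    have hemb := I.subschemeι.isEmbedding
    have hne : (Set.univ : Set I.subscheme).Nonempty := by
      have : x ∈ Set.range I.subschemeι := by rw [hrange]; exact subset_closure rfl
      obtain ⟨z, -⟩ := this
      exact ⟨z, trivial⟩
    have hpre : IsPreirreducible (Set.univ : Set I.subscheme) := by
      rintro U V hU hV ⟨u, -, hu⟩ ⟨v, -, hv⟩
      obtain ⟨U', hU', rfl⟩ := hemb.isInducing.isOpen_iff.mp hU
      obtain ⟨V', hV', rfl⟩ := hemb.isInducing.isOpen_iff.mp hV
      have h1 : (closure ({x} : Set X) ∩ U').Nonempty :=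
        ⟨I.subschemeι u, by rw [← hrange]; exact ⟨u, rfl⟩, hu⟩
      have h2 : (closure ({x} : Set X) ∩ V').Nonempty :=
        ⟨I.subschemeι v, by rw [← hrange]; exact ⟨v, rfl⟩, hv⟩
      obtain ⟨w, hw, hwU, hwV⟩ := hirr.2 U' V' hU' hV' h1 h2
      rw [← hrange] at hw
      obtain ⟨z, rfl⟩ := hw
      exact ⟨z, trivial, hwU, hwV⟩
    exact (irreducibleSpace_def _).mpr ⟨hne, hpre⟩
  exact isIntegral_of_irreducibleSpace_of_isReduced _


theorem isQuasiAffine_of_normal (π : X ⟶ Y) [IsFinite π] [Surjective π] [IsIntegral Y]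
    (hY : Pi1.IsNormalScheme Y) (hX : X.IsQuasiAffine) : Y.IsQuasiAffine := by
  obtain ⟨x, hx⟩ := π.surjective (genericPoint Y)
  set Z : Closeds X := ⟨closure {x}, isClosed_closure⟩ with hZ
  set I := Scheme.IdealSheafData.vanishingIdeal Z with hI
  haveI : IsIntegral I.subscheme := isIntegral_closure_point x
  have hrange : Set.range I.subschemeι = closure {x} := by
    rw [I.range_subschemeι, hI, Scheme.IdealSheafData.coe_support_vanishingIdeal]
    rfl
  haveI : IsFinite (I.subschemeι ≫ π) := inferInstance
  haveI : Surjective (I.subschemeι ≫ π) := by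
    refine ⟨fun y => ?_⟩
    have hcl : IsClosed (Set.range (I.subschemeι ≫ π).base) :=
      (I.subschemeι ≫ π).isClosedMap.isClosed_range
    have hη : genericPoint Y ∈ Set.range (I.subschemeι ≫ π).base := by
      have : x ∈ Set.range I.subschemeι := by rw [hrange]; exact subset_closure rfl
      obtain ⟨z, hz⟩ := this
      refine ⟨z, ?_⟩
      rw [Scheme.Hom.comp_base, TopCat.comp_app]
      show π.base (I.subschemeι.base z) = _
      rw [show I.subschemeι.base z = x from hz, hx]
    have h1 : closure ({genericPoint Y} : Set Y) ⊆ Set.range (I.subschemeι ≫ π).base :=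
      hcl.closure_subset_iff.mpr (Set.singleton_subset_iff.mpr hη)
    rw [(genericPoint_spec Y).def] at h1
    exact h1 (Set.mem_univ y)
  haveI : CompactSpace I.subscheme := QuasiCompact.compactSpace_of_compactSpace I.subschemeι
  haveI : I.subscheme.IsQuasiAffine := Scheme.IsQuasiAffine.of_isImmersion I.subschemeι
  obtain ⟨d, hN⟩ := Groth.Agent.H5.NrmNormal.main (I.subschemeι ≫ π) hY
  exact Groth.Agent.H5.NrmQA.main (I.subschemeι ≫ π) d hN inferInstance

theorem main (π : X ⟶ Y) [IsFinite π] [Surjective π] (hX : X.IsQuasiAffine)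
    (h : Mor2.IsFinLocFree π ∨ (IsIntegral Y ∧ Pi1.IsNormalScheme Y)) : Y.IsQuasiAffine := by
  rcases h with ⟨_, hfl, hfp⟩ | ⟨hint, hY⟩
  · haveI := hfl
    haveI := hfp
    exact Groth.Agent.H5.NrmFree.isQuasiAffine_of_finLocFree π hX
  · haveI := hint
    exact isQuasiAffine_of_normal π hY hX

end Groth.Agent.H5.NrmQA2
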