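import Groth.Statements.S8880
import Mathlib

set_option autoImplicit false
universe u
open CategoryTheory CategoryTheory.Limits AlgebraicGeometry TopologicalSpace
open SDiv

namespace Groth.Agent.H5.NrmQA

variable {X Y : Scheme.{u}} (π : X ⟶ Y)

/-- In a quasi-affine scheme, a finite set of points inside an open `W` is contained in a basic open
`X_s ⊆ W` of a global function. -/
lemma exists_basicOpen_of_finite [X.IsQuasiAffine] (W : X.Opens) (F : Set X) (hF : F.Finite)
    (hFW : F ⊆ W) :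
    ∃ s : Γ(X, ⊤), F ⊆ X.basicOpen s ∧ X.basicOpen s ≤ W := by
  classical
  rcases F.eq_empty_or_nonempty with rfl | ⟨x₀, hx₀⟩
  · refine ⟨0, Set.empty_subset _, ?_⟩
    rw [Scheme.basicOpen_zero]; exact bot_le
  have hopen : IsOpen (X.toSpecΓ '' (W : Set X)) :=
    X.toSpecΓ.isOpenEmbedding.isOpenMap _ W.2
  obtain ⟨I, hI⟩ := (PrimeSpectrum.isClosed_iff_zeroLocus_ideal _).mp hopen.isClosed_compl
  have hnot : ∀ x ∈ F, ¬ (I ≤ (X.toSpecΓ x).asIdeal) := by
    intro x hx hle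
    have : X.toSpecΓ x ∈ (X.toSpecΓ '' (W : Set X))ᶜ := by
      rw [hI]; exact hle
    exact this ⟨x, hFW hx, rfl⟩
  have hav : ¬ ((I : Set Γ(X, ⊤)) ⊆ ⋃ x ∈ (hF.toFinset : Set X), ((X.toSpecΓ x).asIdeal : Set _)) := by
    intro hsub
    rw [Ideal.subset_union_prime (f := fun x : X => (X.toSpecΓ x).asIdeal) x₀ x₀] at hsub
    · obtain ⟨x, hx, hle⟩ := hsub
      exact hnot x (by simpa using hx) hle
    · intro x _ _ _; exact (X.toSpecΓ x).isPrime
  obtain ⟨s, hsI, hs⟩ := Set.not_subset.mp hav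
  refine ⟨s, ?_, ?_⟩
  · intro x hx
    rw [← X.toSpecΓ_preimage_basicOpen s]
    show s ∉ (X.toSpecΓ x).asIdeal
    intro hmem
    exact hs (Set.mem_biUnion (by simpa using hx) hmem)
  · intro x hx
    rw [← X.toSpecΓ_preimage_basicOpen s] at hx
    have hx' : s ∉ (X.toSpecΓ x).asIdeal := hx
    have : X.toSpecΓ x ∈ X.toSpecΓ '' (W : Set X) := by
      by_contra hcon
      have h2 : X.toSpecΓ x ∈ (X.toSpecΓ '' (W : Set X))ᶜ := hcon
      rw [hI] at h2
      exact hx' (h2 hsI)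
    obtain ⟨x', hx'W, hxx'⟩ := this
    have := X.toSpecΓ.isOpenEmbedding.injective hxx'
    subst this
    exact hx'W


variable {π}

lemma isUnit_res_of_le_basicOpen {U W : X.Opens} (s : Γ(X, U)) (hWU : W ≤ U)
    (h : W ≤ X.basicOpen s) : IsUnit (X.presheaf.map (homOfLE hWU).op s) := by
  refine X.toRingedSpace.isUnit_of_isUnit_germ W _ (fun x hx => ?_)
  have h1 := (X.mem_basicOpen s x (hWU hx)).mp (h hx)
  have e := X.presheaf.germ_res_apply (homOfLE hWU) x hx s
  exact e ▸ h1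

lemma surjective_of_norm [IsFinite π] {d : ℕ} (N : Nrm.NormOfDegree π d) :
    Function.Surjective π.base := by
  intro y
  by_contra hy
  have hcl : IsClosed (Set.range π.base) := π.isClosedMap.isClosed_range
  let V : Y.Opens := ⟨(Set.range π.base)ᶜ, hcl.isOpen_compl⟩
  have hyV : y ∈ V := fun ⟨x, hx⟩ => hy ⟨x, hx⟩
  have hempty : π ⁻¹ᵁ V = ⊥ := by
    ext x
    constructor
    · intro hx
      exact (hx ⟨x, rfl⟩).elim
    · intro hx
      exact hx.elim
  haveI : Subsingleton Γ(X, π ⁻¹ᵁ V) := by rw [hempty]; infer_instance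
  have h0 : N.norm V (π.app V 0) = 0 := by
    rw [N.norm_app]; exact zero_pow (by have := N.one_le; omega)
  have h1 : N.norm V (π.app V 1) = 1 := by rw [N.norm_app]; exact one_pow d
  have h01 : (0 : Γ(Y, V)) = 1 := by
    rw [← h0, ← h1]; congr 1; exact Subsingleton.elim _ _
  have hV : V = ⊥ := by
    rw [← Y.basicOpen_of_isUnit (U := V) isUnit_one, ← h01, Scheme.basicOpen_zero]
  rw [hV] at hyV
  exact hyV

lemma exists_affine_basicOpen [IsFinite π] {d : ℕ} (N : Nrm.NormOfDegree π d) [X.IsQuasiAffine]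
    (y : Y) : ∃ t : Γ(Y, ⊤), IsAffineOpen (Y.basicOpen t) ∧ y ∈ Y.basicOpen t := by
  obtain ⟨V, hV, hyV⟩ : ∃ V : Y.Opens, IsAffineOpen V ∧ y ∈ V := by
    obtain ⟨_, ⟨V, hV, rfl⟩, hyV, -⟩ :=
      Y.isBasis_affineOpens.exists_subset_of_mem_open (Set.mem_univ y) isOpen_univ
    exact ⟨V, hV, hyV⟩
  have hfin : (π.base ⁻¹' {y}).Finite := π.finite_preimage_singleton y
  obtain ⟨s, hFs, hsW⟩ := exists_basicOpen_of_finite (π ⁻¹ᵁ V) (π.base ⁻¹' {y}) hfin (by
    intro x hx
    have hx' : π.base x = y := hx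
    show π.base x ∈ V
    rw [hx']; exact hyV)
  let t : Γ(Y, ⊤) := N.norm ⊤ s
  have hsurj := surjective_of_norm N
  have hb : ∀ x : X, π.base x ∈ Y.basicOpen t → x ∈ X.basicOpen s := by
    intro x hx
    by_contra hxs
    have h1 : X.presheaf.germ (π ⁻¹ᵁ ⊤) x trivial s ∈
        IsLocalRing.maximalIdeal (X.presheaf.stalk x) := by
      rw [IsLocalRing.mem_maximalIdeal, mem_nonunits_iff]
      intro hu
      exact hxs ((X.mem_basicOpen s x trivial).mpr hu)
    have h2 := N.norm_mem ⊤ s x trivial h1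
    rw [IsLocalRing.mem_maximalIdeal, mem_nonunits_iff] at h2
    exact h2 ((Y.mem_basicOpen t (π.base x) trivial).mp hx)
  have hc : Y.basicOpen t ≤ V := by
    intro y' hy'
    obtain ⟨x, rfl⟩ := hsurj y'
    exact hsW (hb x hy')
  have ha : y ∈ Y.basicOpen t := by
    let C : Set X := ((X.basicOpen s : Set X))ᶜ
    have hC : IsClosed C := (X.basicOpen s).2.isClosed_compl
    have hπC : IsClosed (π.base '' C) := π.isClosedMap _ hC
    let V' : Y.Opens := ⟨(π.base '' C)ᶜ, hπC.isOpen_compl⟩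
    have hyV' : y ∈ V' := by
      rintro ⟨x, hxC, hxy⟩
      exact hxC (hFs hxy)
    have hle : π ⁻¹ᵁ V' ≤ X.basicOpen s := by
      intro x hx
      by_contra hxs
      exact hx ⟨x, hxs, rfl⟩
    have hunit : IsUnit (X.presheaf.map (homOfLE (le_top : π ⁻¹ᵁ V' ≤ π ⁻¹ᵁ ⊤)).op s) :=
      isUnit_res_of_le_basicOpen (U := π ⁻¹ᵁ ⊤) s le_top hle
    have hres := N.norm_res (homOfLE (le_top : V' ≤ ⊤)) s
    have hunit' : IsUnit (Y.presheaf.map (homOfLE (le_top : V' ≤ ⊤)).op t) := by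
      rw [hres]; exact hunit.map (N.norm V')
    rw [Y.mem_basicOpen t y trivial]
    have := hunit'.map (Y.presheaf.germ V' y hyV').hom
    rwa [Y.presheaf.germ_res_apply] at this
  refine ⟨t, ?_, ha⟩
  have : Y.basicOpen t = Y.basicOpen (Y.presheaf.map (homOfLE (le_top : V ≤ ⊤)).op t) := by
    rw [Scheme.basicOpen_res]; exact (inf_eq_right.mpr hc).symm
  rw [this]
  exact hV.basicOpen _

theorem main (π : X ⟶ Y) [IsFinite π] (d : ℕ) (hN : Nrm.HasNorm π d) (hX : X.IsQuasiAffine) :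
    Y.IsQuasiAffine := by
  obtain ⟨N⟩ := hN
  haveI : CompactSpace Y := (surjective_of_norm N).compactSpace π.continuous
  exact Scheme.IsQuasiAffine.of_forall_exists_mem_basicOpen Y (fun y => exists_affine_basicOpen N y)

end Groth.Agent.H5.NrmQA
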