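import Mathlib
import Groth.Agent.Lib.Helper5.Glue.F
import Groth.Agent.Lib.Helper5.Nrm.A
import Groth.Agent.Lib.Lead.QC.FiniteFree
import Groth.Agent.Lib.Lead.QC.TensorPow
import Groth.Agent.Lib.Lead.QC.AmpleFinite2
import Groth.Agent.Lib.Lead.QC.SepAmple
import Groth.Agent.Lib.Lead.QC.InvBasis
import Groth.Agent.Lib.Lead.QC.AmpleBasis
import Groth.Agent.Lib.Lead.QC.AmpleBase

/-! # The norm of an ample invertible module along a finite morphism with a norm is ample. -/

set_option autoImplicit false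
universe u
open CategoryTheory Limits AlgebraicGeometry TopologicalSpace Opposite

namespace Groth.Agent.H5.NrmAmple

open Groth.Agent.LD Groth.Agent.LD.QC Groth.Agent.H5.Glue Groth.Agent.H5.NrmQA

variable {X Y : Scheme.{u}} {π : X ⟶ Y}

lemma norm_res' {d : ℕ} (N : Nrm.NormOfDegree π d) {U V : Y.Opens} (h : V ≤ U)
    (s : Γ(X, π ⁻¹ᵁ U)) :
    res h (N.norm U s) =
      N.norm V (res (show π ⁻¹ᵁ V ≤ π ⁻¹ᵁ U from fun _ hx => h hx) s) :=
  N.norm_res (homOfLE h) s

/-- local bases of an invertible module over preimages of a cover of the target. -/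
lemma exists_local_bases [IsFinite π] (L : X.Modules) (hL : PicF.IsInvertible L) (y : Y) :
    ∃ W : Y.Opens, y ∈ W ∧ ∃ e : Γ(L, π ⁻¹ᵁ W), IsBasisOver L (π ⁻¹ᵁ W) e := by
  obtain ⟨W', hyW', ⟨φ⟩⟩ := QC.exists_trivial_preimage_of_isFinite π L hL y
  exact ⟨W', hyW', _, QC.isBasisOver_basisOfIso L (π ⁻¹ᵁ W') φ.symm⟩

section Construction

variable [IsFinite π] {d : ℕ} (N : Nrm.NormOfDegree π d) {L : X.Modules}
  {W : Y → Y.Opens} {e : ∀ y, Γ(L, π ⁻¹ᵁ W y)} (he : ∀ y, IsBasisOver L (π ⁻¹ᵁ W y) (e y))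

/-- the transition functions of `L`, as functions on `π⁻¹(W y ∩ W y')`. -/
noncomputable def θ' (y y' : Y) : Γ(X, π ⁻¹ᵁ (W y ⊓ W y')) :=
  res (show π ⁻¹ᵁ (W y ⊓ W y') ≤ π ⁻¹ᵁ W y ⊓ π ⁻¹ᵁ W y' from fun _ h => h)
    (transition he y y')

/-- the normed cocycle. -/
noncomputable def ηN (y y' : Y) : Γ(Y, W y ⊓ W y') := N.norm (W y ⊓ W y') (θ' he y y')

lemma isCocycle_ηN : IsCocycle W (ηN N he) := by
  intro y y' y''
  have hθc := isCocycle_transition he y y' y''
  unfold ηN
  rw [norm_res', norm_res', norm_res', ← map_mul]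
  congr 1
  unfold θ'
  rw [Glue.res_res, Glue.res_res, Glue.res_res]
  have h := congrArg (res (show π ⁻¹ᵁ (W y ⊓ W y' ⊓ W y'') ≤
    π ⁻¹ᵁ W y ⊓ π ⁻¹ᵁ W y' ⊓ π ⁻¹ᵁ W y'' from fun _ h => h)) hθc
  rw [map_mul, Glue.res_res, Glue.res_res, Glue.res_res] at h
  exact h

lemma isUnit_ηN (y y' : Y) : IsUnit (ηN N he y y') := by
  unfold ηN θ'
  exact ((isUnit_transition he y y').map _).map (N.norm _)

/-- the norm of `L` for the chosen local bases. -/
noncomputable def normMod : Y.Modules := glueMod W (ηN N he)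

lemma isInvertible_normMod (hcov : iSup W = ⊤) : PicF.IsInvertible (normMod N he) :=
  isInvertible_glueMod (isCocycle_ηN N he) (fun y => isUnit_ηN N he y y) hcov

/-- the local generators of the norm. -/
noncomputable def gen (y : Y) : Γ(normMod N he, W y) := glueGen (isCocycle_ηN N he) y

lemma isBasisOver_gen (y : Y) : IsBasisOver (normMod N he) (W y) (gen N he y) :=
  isBasisOver_glueGen (isCocycle_ηN N he) (fun y => isUnit_ηN N he y y) y

lemma gen_transition (y y' : Y) :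
    mres (normMod N he) (inf_le_left : W y ⊓ W y' ≤ W y) (gen N he y) =
      ηN N he y y' • mres (normMod N he) (inf_le_right : W y ⊓ W y' ≤ W y') (gen N he y') :=
  glueGen_transition (isCocycle_ηN N he) y y'

variable {m : ℕ} (t : unitMod X ⟶ CohB1.tensorPow L m)

include he in
lemma exists_coord (y : Y) :
    ∃ a : Γ(X, π ⁻¹ᵁ W y), SecTwist.val t (π ⁻¹ᵁ W y) = a • secPow (e y) m :=
  ((he y).secPow m).exists_coord _

/-- the coordinate of `t` over `π⁻¹(W y)`. -/
noncomputable def coord (y : Y) : Γ(X, π ⁻¹ᵁ W y) := (exists_coord he t y).choose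

lemma coord_spec (y : Y) : SecTwist.val t (π ⁻¹ᵁ W y) = coord he t y • secPow (e y) m :=
  (exists_coord he t y).choose_spec

lemma mres_e (y y' : Y) :
    mres L (show π ⁻¹ᵁ (W y ⊓ W y') ≤ π ⁻¹ᵁ W y from fun _ h => h.1) (e y) =
      θ' he y y' • mres L (show π ⁻¹ᵁ (W y ⊓ W y') ≤ π ⁻¹ᵁ W y' from fun _ h => h.2) (e y') := by
  have h := congrArg (mres L (show π ⁻¹ᵁ (W y ⊓ W y') ≤ π ⁻¹ᵁ W y ⊓ π ⁻¹ᵁ W y' from
    fun _ h => h)) (transition_spec he y y')
  rw [mres_mres, mres_smul, mres_mres] at h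
  exact h

lemma coord_transition (y y' : Y) :
    res (show π ⁻¹ᵁ (W y ⊓ W y') ≤ π ⁻¹ᵁ W y' from fun _ h => h.2) (coord he t y') =
      res (show π ⁻¹ᵁ (W y ⊓ W y') ≤ π ⁻¹ᵁ W y from fun _ h => h.1) (coord he t y) *
        θ' he y y' ^ m := by
  have hle1 : π ⁻¹ᵁ (W y ⊓ W y') ≤ π ⁻¹ᵁ W y := fun _ h => h.1
  have hle2 : π ⁻¹ᵁ (W y ⊓ W y') ≤ π ⁻¹ᵁ W y' := fun _ h => h.2
  have hb := ((he y').mono hle2).secPow m
  apply hb.coord_injective
  have hsec : secPow (mres L hle1 (e y)) m = θ' he y y' ^ m • secPow (mres L hle2 (e y')) m := by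
    rw [mres_e he y y', secPow_smul]
  have h1 : SecTwist.val t (π ⁻¹ᵁ (W y ⊓ W y')) =
      res hle1 (coord he t y) • secPow (mres L hle1 (e y)) m := by
    rw [← QC.val_res t hle1, coord_spec he t y]
    exact (mres_smul _ hle1 _ _).trans (congrArg _ (secPow_res hle1 (e y) m))
  have h2 : SecTwist.val t (π ⁻¹ᵁ (W y ⊓ W y')) =
      res hle2 (coord he t y') • secPow (mres L hle2 (e y')) m := by
    rw [← QC.val_res t hle2, coord_spec he t y']
    exact (mres_smul _ hle2 _ _).trans (congrArg _ (secPow_res hle2 (e y') m))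
  rw [hsec, smul_smul] at h1
  exact h2.symm.trans h1

/-- the local pieces of the norm of the section `t`. -/
noncomputable def normLoc (y : Y) : Γ(CohB1.tensorPow (normMod N he) m, W y) :=
  N.norm (W y) (coord he t y) • secPow (gen N he y) m

lemma normLoc_compat (y y' : Y) :
    mres (CohB1.tensorPow (normMod N he) m) (inf_le_left : W y ⊓ W y' ≤ W y) (normLoc N he t y) =
      mres (CohB1.tensorPow (normMod N he) m) (inf_le_right : W y ⊓ W y' ≤ W y')
        (normLoc N he t y') := by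
  have hsec : secPow (mres (normMod N he) (inf_le_left : W y ⊓ W y' ≤ W y) (gen N he y)) m =
      ηN N he y y' ^ m •
        secPow (mres (normMod N he) (inf_le_right : W y ⊓ W y' ≤ W y') (gen N he y')) m := by
    rw [gen_transition N he y y', secPow_smul]
  have h1 : mres (CohB1.tensorPow (normMod N he) m) (inf_le_left : W y ⊓ W y' ≤ W y)
      (normLoc N he t y) = res (inf_le_left : W y ⊓ W y' ≤ W y) (N.norm (W y) (coord he t y)) •
        secPow (mres (normMod N he) (inf_le_left : W y ⊓ W y' ≤ W y) (gen N he y)) m :=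
    (mres_smul _ _ _ _).trans (congrArg _ (secPow_res _ (gen N he y) m))
  have h2 : mres (CohB1.tensorPow (normMod N he) m) (inf_le_right : W y ⊓ W y' ≤ W y')
      (normLoc N he t y') = res (inf_le_right : W y ⊓ W y' ≤ W y')
        (N.norm (W y') (coord he t y')) •
        secPow (mres (normMod N he) (inf_le_right : W y ⊓ W y' ≤ W y') (gen N he y')) m :=
    (mres_smul _ _ _ _).trans (congrArg _ (secPow_res _ (gen N he y') m))
  rw [h1, h2, hsec, smul_smul, norm_res', norm_res', coord_transition he t y y', map_mul, map_pow]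
  rfl

include N in
lemma exists_normSec (hcov : iSup W = ⊤) :
    ∃ σ : unitMod Y ⟶ CohB1.tensorPow (normMod N he) m,
      ∀ y, SecTwist.val σ (W y) = normLoc N he t y := by
  obtain ⟨σ, hσ, -⟩ := existsUnique_glue_sec (CohB1.tensorPow (normMod N he) m) W hcov
    (normLoc N he t) (normLoc_compat N he t)
  refine ⟨QC.homOfSection _ σ, fun y => ?_⟩
  rw [QC.val_homOfSection]
  exact hσ y

variable {N he t}

lemma genLocus_inf_preimage (y : Y) :
    CohB1.genLocus _ t ⊓ π ⁻¹ᵁ W y = X.basicOpen (coord he t y) :=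
  QC.genLocus_inf_eq_basicOpen t ((he y).secPow m) _ (coord_spec he t y)

lemma genLocus_normSec_inf {σ : unitMod Y ⟶ CohB1.tensorPow (normMod N he) m}
    (hσ : ∀ y, SecTwist.val σ (W y) = normLoc N he t y) (y : Y) :
    CohB1.genLocus _ σ ⊓ W y = Y.basicOpen (N.norm (W y) (coord he t y)) :=
  QC.genLocus_inf_eq_basicOpen σ ((isBasisOver_gen N he y).secPow m) _ (hσ y)

lemma mem_genLocus_normSec {σ : unitMod Y ⟶ CohB1.tensorPow (normMod N he) m}
    (hσ : ∀ y, SecTwist.val σ (W y) = normLoc N he t y) (hyW : ∀ y, y ∈ W y) (y₀ : Y)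
    (h : ∀ x : X, π.base x = y₀ → x ∈ CohB1.genLocus _ t) : y₀ ∈ CohB1.genLocus _ σ := by
  have hmem : y₀ ∈ Y.basicOpen (N.norm (W y₀) (coord he t y₀)) := by
    set a := coord he t y₀ with ha
    let C : Set X := ((X.basicOpen a : Set X))ᶜ
    have hC : IsClosed C := (X.basicOpen a).2.isClosed_compl
    have hπC : IsClosed (π.base '' C) := π.isClosedMap _ hC
    let V' : Y.Opens := W y₀ ⊓ ⟨(π.base '' C)ᶜ, hπC.isOpen_compl⟩
    have hV'W : V' ≤ W y₀ := inf_le_left
    have hyV' : y₀ ∈ V' := by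
      refine ⟨hyW y₀, ?_⟩
      rintro ⟨x, hxC, hxy⟩
      apply hxC
      have h1 : x ∈ CohB1.genLocus _ t ⊓ π ⁻¹ᵁ W y₀ := by
        refine ⟨h x hxy, ?_⟩
        show π.base x ∈ W y₀
        rw [hxy]
        exact hyW y₀
      rw [genLocus_inf_preimage (he := he) (t := t) y₀] at h1
      exact h1
    have hle : π ⁻¹ᵁ V' ≤ X.basicOpen a := by
      intro x hx
      by_contra hxs
      exact hx.2 ⟨x, hxs, rfl⟩
    have hunit : IsUnit (res (show π ⁻¹ᵁ V' ≤ π ⁻¹ᵁ W y₀ from fun _ hx => hV'W hx) a) :=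
      NrmQA.isUnit_res_of_le_basicOpen (U := π ⁻¹ᵁ W y₀) a _ hle
    have hres := norm_res' N hV'W a
    have hunit' : IsUnit (res hV'W (N.norm (W y₀) a)) := by
      rw [hres]
      exact hunit.map (N.norm V')
    rw [Y.mem_basicOpen _ y₀ (hyW y₀)]
    have := hunit'.map (Y.presheaf.germ V' y₀ hyV').hom
    rwa [show (Y.presheaf.germ V' y₀ hyV').hom (res hV'W (N.norm (W y₀) a)) = _ from
      Y.presheaf.germ_res_apply (homOfLE hV'W) y₀ hyV' _] at this
  rw [← genLocus_normSec_inf hσ y₀] at hmem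
  exact hmem.1

lemma genLocus_normSec_le {σ : unitMod Y ⟶ CohB1.tensorPow (normMod N he) m}
    (hσ : ∀ y, SecTwist.val σ (W y) = normLoc N he t y) (hyW : ∀ y, y ∈ W y) (V₀ : Y.Opens)
    (h : CohB1.genLocus _ t ≤ π ⁻¹ᵁ V₀) : CohB1.genLocus _ σ ≤ V₀ := by
  intro y' hy'
  obtain ⟨x, rfl⟩ := surjective_of_norm N y'
  have hx1 : π.base x ∈ Y.basicOpen (N.norm (W (π.base x)) (coord he t (π.base x))) := by
    rw [← genLocus_normSec_inf hσ (π.base x)]
    exact ⟨hy', hyW _⟩
  have hxW : x ∈ π ⁻¹ᵁ W (π.base x) := hyW _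
  have hx2 : x ∈ X.basicOpen (coord he t (π.base x)) := by
    by_contra hxs
    have h1 : X.presheaf.germ (π ⁻¹ᵁ W (π.base x)) x hxW (coord he t (π.base x)) ∈
        IsLocalRing.maximalIdeal (X.presheaf.stalk x) := by
      rw [IsLocalRing.mem_maximalIdeal, mem_nonunits_iff]
      intro hu
      exact hxs ((X.mem_basicOpen _ x hxW).mpr hu)
    have h2 := N.norm_mem (W (π.base x)) (coord he t (π.base x)) x (hyW _) h1
    rw [IsLocalRing.mem_maximalIdeal, mem_nonunits_iff] at h2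
    exact h2 ((Y.mem_basicOpen _ (π.base x) (hyW _)).mp hx1)
  rw [← genLocus_inf_preimage (he := he) (t := t) (π.base x)] at hx2
  exact h hx2.1

end Construction

/-- **The norm of an ample module is ample**: if `π : X ⟶ Y` is finite with a norm and `X` has an
ample invertible module, then so has `Y`. -/
theorem exists_isAmple_of_norm [IsFinite π] {d : ℕ} (N : Nrm.NormOfDegree π d) (L : X.Modules)
    (hL : CohB1.IsAmple L) : ∃ M : Y.Modules, CohB1.IsAmple M := by
  classical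
  obtain ⟨hLinv, hXc, hLamp⟩ := hL
  haveI := hXc
  haveI : X.IsSeparated := QC.isSeparated_of_affine_genLocus L hLinv hLamp
  choose W hyW e he using exists_local_bases (π := π) L hLinv
  have hcov : iSup W = ⊤ := by
    rw [eq_top_iff]
    intro y _
    exact Opens.mem_iSup.mpr ⟨y, hyW y⟩
  refine ⟨normMod N he, isInvertible_normMod N he hcov, ?_, ?_⟩
  · exact (surjective_of_norm N).compactSpace π.continuous
  · intro y₀
    obtain ⟨V₀, hV₀, hyV₀⟩ : ∃ V : Y.Opens, IsAffineOpen V ∧ y₀ ∈ V := by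
      obtain ⟨_, ⟨V, hV, rfl⟩, hyV, -⟩ :=
        Y.isBasis_affineOpens.exists_subset_of_mem_open (Set.mem_univ y₀) isOpen_univ
      exact ⟨V, hV, hyV⟩
    have hfin : (π.base ⁻¹' {y₀}).Finite := π.finite_preimage_singleton y₀
    obtain ⟨n, t, hZt, htU, -⟩ := QC.exists_affine_genLocus_finset L ⟨hLinv, hXc, hLamp⟩ _
      hfin.toFinset rfl (π ⁻¹ᵁ V₀) (by
        intro z hz
        have hz' : π.base z = y₀ := by simpa using hz
        show π.base z ∈ V₀
        rw [hz']
        exact hyV₀)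
    obtain ⟨σ, hσ⟩ := exists_normSec N he t hcov
    refine ⟨n, σ, mem_genLocus_normSec hσ hyW y₀ ?_, ?_⟩
    · intro x hx
      exact hZt x (by simpa using hx)
    · have hle := genLocus_normSec_le hσ hyW V₀ htU
      have haff := QC.isAffineOpen_genLocus_inf _
        (QC.isInvertible_tensorPow (isInvertible_normMod N he hcov) (n + 1)) σ hV₀
      rwa [inf_eq_left.mpr hle] at haff

end Groth.Agent.H5.NrmAmple
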