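import Groth.Statements.S8882
import Mathlib

set_option autoImplicit false
universe u
open CategoryTheory CategoryTheory.Limits AlgebraicGeometry TopologicalSpace Opposite
open SDiv

namespace Groth.Agent.H5.NrmPow

variable {Z X : Scheme.{u}} (ι : Z ⟶ X) (q : ℕ)

/-- `ι♯` is locally surjective and equal images force equal `q`-th powers. -/
structure PowLift : Prop where
  surj : ∀ (U : X.Opens) (s : Γ(Z, ι ⁻¹ᵁ U)) (x : X), x ∈ U →
    ∃ (W : X.Opens) (i : W ⟶ U) (a : Γ(X, W)), x ∈ W ∧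
      ι.app W a = Z.presheaf.map ((Opens.map ι.base).map i).op s
  inj : ∀ (W : X.Opens) (a b : Γ(X, W)), ι.app W a = ι.app W b → a ^ q = b ^ q

variable {ι q}

lemma app_res {U W : X.Opens} (i : W ⟶ U) (a : Γ(X, U)) :
    ι.app W (X.presheaf.map i.op a) =
      Z.presheaf.map ((Opens.map ι.base).map i).op (ι.app U a) := by
  have := ι.naturality i.op
  exact congr($this a)

lemma lift_res {U W W' : X.Opens} (i : W ⟶ U) (j : W' ⟶ W) (s : Γ(Z, ι ⁻¹ᵁ U)) (a : Γ(X, W))
    (ha : ι.app W a = Z.presheaf.map ((Opens.map ι.base).map i).op s) :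
    ι.app W' (X.presheaf.map j.op a) =
      Z.presheaf.map ((Opens.map ι.base).map (j ≫ i)).op s := by
  rw [app_res, ha, ← ConcreteCategory.comp_apply, ← Functor.map_comp, ← op_comp,
    ← Functor.map_comp]

lemma exists_norm (h : PowLift ι q) (U : X.Opens) (s : Γ(Z, ι ⁻¹ᵁ U)) :
    ∃ t : Γ(X, U), ∀ (W : X.Opens) (i : W ⟶ U) (a : Γ(X, W)),
      ι.app W a = Z.presheaf.map ((Opens.map ι.base).map i).op s →
        X.presheaf.map i.op t = a ^ q := by
  choose W i a hxW ha using fun x : U => h.surj U s x.1 x.2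
  have hcover : U ≤ iSup W := fun x hx => Opens.mem_iSup.mpr ⟨⟨x, hx⟩, hxW ⟨x, hx⟩⟩
  have key : ∀ (W₁ W₂ : X.Opens) (i₁ : W₁ ⟶ U) (i₂ : W₂ ⟶ U) (a₁ : Γ(X, W₁)) (a₂ : Γ(X, W₂)),
      ι.app W₁ a₁ = Z.presheaf.map ((Opens.map ι.base).map i₁).op s →
      ι.app W₂ a₂ = Z.presheaf.map ((Opens.map ι.base).map i₂).op s →
      X.presheaf.map (Opens.infLELeft W₁ W₂).op (a₁ ^ q) =
        X.presheaf.map (Opens.infLERight W₁ W₂).op (a₂ ^ q) := by
    intro W₁ W₂ i₁ i₂ a₁ a₂ h₁ h₂
    rw [map_pow, map_pow]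
    apply h.inj
    rw [lift_res i₁ _ s a₁ h₁, lift_res i₂ _ s a₂ h₂]
    congr 3
  have ic : TopCat.Presheaf.IsCompatible X.presheaf W (fun x => a x ^ q) :=
    fun x y => key _ _ (i x) (i y) _ _ (ha x) (ha y)
  obtain ⟨t, ht, -⟩ := X.sheaf.existsUnique_gluing' W U i hcover (fun x => a x ^ q) ic
  refine ⟨t, fun W' i' a' ha' => ?_⟩
  apply X.sheaf.eq_of_locally_eq' (fun x : U => W' ⊓ W x) W' (fun x => Opens.infLELeft _ _)
  · intro y hy
    exact Opens.mem_iSup.mpr ⟨⟨y, i'.le hy⟩, hy, hxW ⟨y, i'.le hy⟩⟩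
  · intro x
    have h1 := key _ _ i' (i x) a' (a x) ha' (ha x)
    have h2 : X.presheaf.map (Opens.infLELeft W' (W x)).op (X.presheaf.map i'.op t) =
        X.presheaf.map (Opens.infLERight W' (W x)).op (X.presheaf.map (i x).op t) := by
      rw [← ConcreteCategory.comp_apply, ← ConcreteCategory.comp_apply, ← Functor.map_comp,
        ← Functor.map_comp]
      rfl
    have h3 : X.presheaf.map (i x).op t = a x ^ q := ht x
    exact h2.trans ((congrArg _ h3).trans h1.symm)


/-- The norm of a section. -/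
noncomputable def normFun (h : PowLift ι q) (U : X.Opens) (s : Γ(Z, ι ⁻¹ᵁ U)) : Γ(X, U) :=
  (exists_norm h U s).choose

lemma normFun_spec (h : PowLift ι q) (U : X.Opens) (s : Γ(Z, ι ⁻¹ᵁ U)) (W : X.Opens) (i : W ⟶ U)
    (a : Γ(X, W)) (ha : ι.app W a = Z.presheaf.map ((Opens.map ι.base).map i).op s) :
    X.presheaf.map i.op (normFun h U s) = a ^ q :=
  (exists_norm h U s).choose_spec W i a ha

lemma normFun_eq (h : PowLift ι q) (U : X.Opens) (s : Γ(Z, ι ⁻¹ᵁ U)) (a : Γ(X, U))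
    (ha : ι.app U a = s) : normFun h U s = a ^ q := by
  have := normFun_spec h U s U (𝟙 U) a (by
    rw [ha]
    simp)
  simpa using this

/-- two sections agreeing with `a^q` on every local lift are equal -/
lemma eq_of_lifts (h : PowLift ι q) (U : X.Opens) (s : Γ(Z, ι ⁻¹ᵁ U)) (t t' : Γ(X, U))
    (ht : ∀ (W : X.Opens) (i : W ⟶ U) (a : Γ(X, W)),
      ι.app W a = Z.presheaf.map ((Opens.map ι.base).map i).op s →
        X.presheaf.map i.op t = X.presheaf.map i.op t') : t = t' := by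
  choose W i a hxW ha using fun x : U => h.surj U s x.1 x.2
  apply X.sheaf.eq_of_locally_eq' W U i
  · exact fun x hx => Opens.mem_iSup.mpr ⟨⟨x, hx⟩, hxW ⟨x, hx⟩⟩
  · intro x
    exact ht _ (i x) (a x) (ha x)

lemma exists_common_lift (h : PowLift ι q) (U : X.Opens) (s s' : Γ(Z, ι ⁻¹ᵁ U)) (x : X)
    (hx : x ∈ U) : ∃ (W : X.Opens) (i : W ⟶ U) (a a' : Γ(X, W)), x ∈ W ∧
      ι.app W a = Z.presheaf.map ((Opens.map ι.base).map i).op s ∧
      ι.app W a' = Z.presheaf.map ((Opens.map ι.base).map i).op s' := by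
  obtain ⟨W₁, i₁, a₁, hx₁, h₁⟩ := h.surj U s x hx
  obtain ⟨W₂, i₂, a₂, hx₂, h₂⟩ := h.surj U s' x hx
  refine ⟨W₁ ⊓ W₂, Opens.infLELeft _ _ ≫ i₁, X.presheaf.map (Opens.infLELeft _ _).op a₁,
    X.presheaf.map (Opens.infLERight _ _).op a₂, ⟨hx₁, hx₂⟩, lift_res _ _ _ _ h₁, ?_⟩
  have := lift_res i₂ (Opens.infLERight W₁ W₂) s' a₂ h₂
  exact this

lemma normFun_mul (h : PowLift ι q) (U : X.Opens) (s s' : Γ(Z, ι ⁻¹ᵁ U)) :
    normFun h U (s * s') = normFun h U s * normFun h U s' := by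
  apply TopCat.Presheaf.section_ext X.sheaf
  intro x hx
  obtain ⟨W, i, a, a', hxW, ha, ha'⟩ := exists_common_lift h U s s' x hx
  have e1 := normFun_spec h U s W i a ha
  have e2 := normFun_spec h U s' W i a' ha'
  have e3 := normFun_spec h U (s * s') W i (a * a') (by rw [map_mul, map_mul, ha, ha'])
  have g : ∀ t : Γ(X, U), X.presheaf.germ U x hx t =
      X.presheaf.germ W x hxW (X.presheaf.map i.op t) :=
    fun t => (X.presheaf.germ_res_apply i x hxW t).symm
  show X.presheaf.germ U x hx _ = X.presheaf.germ U x hx _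
  rw [g, e3, map_mul, g, g, e1, e2, mul_pow, map_mul]

/-- The norm as a monoid homomorphism. -/
noncomputable def normHom (h : PowLift ι q) (U : X.Opens) : Γ(Z, ι ⁻¹ᵁ U) →* Γ(X, U) where
  toFun := normFun h U
  map_one' := by
    rw [normFun_eq h U 1 1 (map_one _), one_pow]
  map_mul' := normFun_mul h U

/-- A `PowLift` with `1 ≤ q` gives a norm of degree `q`. -/
noncomputable def normOfDegree (h : PowLift ι q) (hq : 1 ≤ q) : Nrm.NormOfDegree ι q where
  one_le := hq
  norm := normHom h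
  norm_res := by
    intro U V i s
    show X.presheaf.map i.op (normFun h U s) = normFun h V _
    apply TopCat.Presheaf.section_ext X.sheaf
    intro x hx
    obtain ⟨W, j, a, hxW, ha⟩ := h.surj V (Z.presheaf.map ((Opens.map ι.base).map i).op s) x hx
    have e1 := normFun_spec h V _ W j a ha
    have e2 := normFun_spec h U s W (j ≫ i) a (by
      rw [ha, ← ConcreteCategory.comp_apply, ← Functor.map_comp, ← op_comp, ← Functor.map_comp])
    have g : ∀ t : Γ(X, V), X.presheaf.germ V x hx t =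
        X.presheaf.germ W x hxW (X.presheaf.map j.op t) :=
      fun t => (X.presheaf.germ_res_apply j x hxW t).symm
    have e2' : X.presheaf.map j.op (X.presheaf.map i.op (normFun h U s)) = a ^ q := by
      rw [← e2, ← ConcreteCategory.comp_apply, ← Functor.map_comp, ← op_comp]
    show X.presheaf.germ V x hx _ = X.presheaf.germ V x hx _
    rw [g, g, e1, e2']
  norm_app := by
    intro U g
    exact normFun_eq h U _ g rfl
  norm_mem := by
    intro U s z hz hmem
    obtain ⟨W, i, a, hxW, ha⟩ := h.surj U s (ι.base z) hz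
    have e1 := normFun_spec h U s W i a ha
    rw [IsLocalRing.mem_maximalIdeal, mem_nonunits_iff] at hmem ⊢
    intro hu
    apply hmem
    have g1 : X.presheaf.germ U (ι.base z) hz (normFun h U s) =
        (X.presheaf.germ W (ι.base z) hxW a) ^ q := by
      rw [← X.presheaf.germ_res_apply i (ι.base z) hxW, e1, map_pow]
    have hu' : IsUnit ((X.presheaf.germ W (ι.base z) hxW a) ^ q) := g1 ▸ hu
    have hu2 : IsUnit (X.presheaf.germ W (ι.base z) hxW a) :=
      (isUnit_pow_iff (by omega)).mp hu'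
    have hu3 := hu2.map (ι.stalkMap z).hom
    have e2 : (ι.stalkMap z).hom (X.presheaf.germ W (ι.base z) hxW a) =
        Z.presheaf.germ (ι ⁻¹ᵁ U) z hz s := by
      show ι.stalkMap z (X.presheaf.germ W (ι.base z) hxW a) = _
      rw [Scheme.Hom.germ_stalkMap_apply, ha, Z.presheaf.germ_res_apply]
    rwa [e2] at hu3

theorem hasNorm_of_powLift (h : PowLift ι q) (hq : 1 ≤ q) : Nrm.HasNorm ι q :=
  ⟨normOfDegree h hq⟩

end Groth.Agent.H5.NrmPow
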