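import Groth.Agent.Lib.Helper5.Nrm.B

set_option autoImplicit false
universe u
open CategoryTheory CategoryTheory.Limits AlgebraicGeometry TopologicalSpace Opposite
open SDiv

namespace Groth.Agent.H5.NrmPow

lemma pow_eq_zero_of_isNilpotent_localization {A S : Type*} [CommRing A] [CommRing S]
    [Algebra A S] (M : Submonoid A) [IsLocalization M S] (n : ℕ)
    (hn : ∀ b : A, IsNilpotent b → b ^ n = 0) (α : S) (hα : IsNilpotent α) : α ^ n = 0 := by
  obtain ⟨r, hr⟩ := hα
  obtain ⟨b, u, rfl⟩ := IsLocalization.exists_mk'_eq M α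
  rw [← IsLocalization.mk'_pow, IsLocalization.mk'_eq_zero_iff] at hr
  obtain ⟨v, hv⟩ := hr
  have hnil : IsNilpotent ((v : A) * b) := by
    refine ⟨r + 1, ?_⟩
    rw [mul_pow, pow_succ, pow_succ]
    calc (v : A) ^ r * v * (b ^ r * b) = (v : A) ^ r * b * (v * b ^ r) := by ring
      _ = 0 := by rw [hv, mul_zero]
  have h0 := hn _ hnil
  rw [← IsLocalization.mk'_pow, IsLocalization.mk'_eq_zero_iff]
  exact ⟨v ^ n, by simpa [mul_pow] using h0⟩

lemma exists_affine_nhd {X : Scheme.{u}} (U : X.Opens) (x : X) (hx : x ∈ U) :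
    ∃ W : X.Opens, IsAffineOpen W ∧ x ∈ W ∧ W ≤ U := by
  obtain ⟨_, ⟨W, hW, rfl⟩, hxW, hWU⟩ :=
    X.isBasis_affineOpens.exists_subset_of_mem_open hx U.2
  exact ⟨W, hW, hxW, hWU⟩

lemma exists_stalk_nilp (X : Scheme.{u}) [IsNoetherian X] :
    ∃ n : ℕ, ∀ (x : X) (α : X.presheaf.stalk x), IsNilpotent α → α ^ n = 0 := by
  classical
  have hU : ∀ U : X.affineOpens, ∃ n : ℕ, ∀ b : Γ(X, U.1), IsNilpotent b → b ^ n = 0 := by
    intro U
    haveI : IsNoetherianRing Γ(X, U.1) := IsLocallyNoetherian.component_noetherian U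
    obtain ⟨n, hn⟩ := IsNoetherianRing.isNilpotent_nilradical Γ(X, U.1)
    refine ⟨n, fun b hb => ?_⟩
    have : b ^ n ∈ nilradical Γ(X, U.1) ^ n := Ideal.pow_mem_pow (mem_nilradical.mpr hb) n
    rw [hn] at this
    exact this
  choose n hn using hU
  obtain ⟨t, ht⟩ := isCompact_univ.elim_finite_subcover (fun U : X.affineOpens => (U.1 : Set X))
    (fun U => U.1.2) (by
      intro x _
      obtain ⟨W, hW, hxW, -⟩ := exists_affine_nhd (⊤ : X.Opens) x trivial
      exact Set.mem_iUnion.mpr ⟨⟨W, hW⟩, hxW⟩)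
  refine ⟨t.sup n, fun x α hα => ?_⟩
  obtain ⟨U, hUt, hxU⟩ : ∃ U ∈ t, x ∈ U.1 := by simpa using ht (Set.mem_univ x)
  have hle : n U ≤ t.sup n := Finset.le_sup hUt
  let _ := X.presheaf.algebra_section_stalk ⟨x, hxU⟩
  haveI := U.2.isLocalization_stalk ⟨x, hxU⟩
  have := pow_eq_zero_of_isNilpotent_localization
    (U.2.primeIdealOf ⟨x, hxU⟩).asIdeal.primeCompl (n U) (hn U) α hα
  exact pow_eq_zero_of_le hle this

theorem powLift_nilradical (X : Scheme.{u}) [IsNoetherian X] (p : ℕ) (hp : p.Prime)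
    (hpX : (p : Γ(X, ⊤)) = 0) :
    ∃ e : ℕ, 0 < e ∧ PowLift X.nilradical.subschemeι (p ^ e) := by
  obtain ⟨n, hn⟩ := exists_stalk_nilp X
  refine ⟨n + 1, Nat.succ_pos n, ?_, ?_⟩
  · intro U s x hx
    obtain ⟨W, hW, hxW, hWU⟩ := exists_affine_nhd U x hx
    obtain ⟨a, ha⟩ := X.nilradical.subschemeι_app_surjective ⟨W, hW⟩
      (X.nilradical.subscheme.presheaf.map
        ((Opens.map X.nilradical.subschemeι.base).map (homOfLE hWU)).op s)
    exact ⟨W, homOfLE hWU, a, hxW, ha⟩
  · intro W a b hab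
    have hq : n ≤ p ^ (n + 1) :=
      (Nat.lt_pow_self hp.one_lt).le.trans (Nat.pow_le_pow_right hp.pos (Nat.le_succ n))
    have hc : X.nilradical.subschemeι.app W (a - b) = 0 := by rw [map_sub, hab, sub_self]
    have hgerm : ∀ x (hx : x ∈ W), X.presheaf.germ W x hx ((a - b) ^ (p ^ (n + 1))) = 0 := by
      intro x hx
      obtain ⟨W', hW', hxW', hW'W⟩ := exists_affine_nhd W x hx
      have hker : X.presheaf.map (homOfLE hW'W).op (a - b) ∈
          RingHom.ker (X.nilradical.subschemeι.app W').hom := by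
        rw [RingHom.mem_ker]
        show X.nilradical.subschemeι.app W' (X.presheaf.map _ (a - b)) = 0
        rw [app_res, hc, map_zero]
      rw [X.nilradical.ker_subschemeι_app ⟨W', hW'⟩] at hker
      have hnil : IsNilpotent (X.presheaf.map (homOfLE hW'W).op (a - b)) := by
        change _ ∈ (Scheme.IdealSheafData.radical ⊥).ideal _ at hker
        rw [Scheme.IdealSheafData.radical_ideal, Scheme.IdealSheafData.ideal_bot] at hker
        obtain ⟨r, hr⟩ := hker
        exact ⟨r, by simpa using hr⟩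
      have hnil' : IsNilpotent (X.presheaf.germ W x hx (a - b)) := by
        rw [← X.presheaf.germ_res_apply (homOfLE hW'W) x hxW']
        exact hnil.map _
      have := hn x _ hnil'
      rw [map_pow]; exact pow_eq_zero_of_le hq this
    have hzero : (a - b) ^ (p ^ (n + 1)) = 0 := by
      apply TopCat.Presheaf.section_ext X.sheaf W
      intro x hx
      exact (hgerm x hx).trans (map_zero _).symm
    rcases subsingleton_or_nontrivial Γ(X, W) with hs | hnt
    · exact Subsingleton.elim _ _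
    · have hpW : (p : Γ(X, W)) = 0 := by
        have := congrArg (X.presheaf.map (homOfLE le_top : W ⟶ ⊤).op) hpX
        simpa using this
      haveI : Fact p.Prime := ⟨hp⟩
      haveI : CharP Γ(X, W) p := (CharP.charP_iff_prime_eq_zero hp).mpr hpW
      rw [sub_pow_char_pow] at hzero
      exact sub_eq_zero.mp hzero

theorem main (X : Scheme.{u}) [IsNoetherian X] (p : ℕ) (hp : p.Prime)
    (hpX : (p : Γ(X, ⊤)) = 0) :
    ∃ e : ℕ, 0 < e ∧ Nrm.HasNorm X.nilradical.subschemeι (p ^ e) := by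
  obtain ⟨e, he, h⟩ := powLift_nilradical X p hp hpX
  exact ⟨e, he, hasNorm_of_powLift h (Nat.one_le_pow _ _ hp.pos)⟩

end Groth.Agent.H5.NrmPow
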