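import Groth.Statements.S8878
import Mathlib

set_option autoImplicit false
universe u
open CategoryTheory CategoryTheory.Limits AlgebraicGeometry TopologicalSpace Opposite
open SDiv

namespace Groth.Agent.H5.NrmGlue

variable {X Y : Scheme.{u}}

/-- Local norm data on a basis of opens of `Y`. -/
structure LocalNorm (π : X ⟶ Y) (d : ℕ) where
  B : Set Y.Opens
  basis : ∀ (U : Y.Opens) (y : Y), y ∈ U → ∃ W ∈ B, y ∈ W ∧ W ≤ U
  n : ∀ W : Y.Opens, W ∈ B → (Γ(X, π ⁻¹ᵁ W) →* Γ(Y, W))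
  res : ∀ (W W' : Y.Opens) (hW : W ∈ B) (hW' : W' ∈ B) (i : W' ⟶ W) (s : Γ(X, π ⁻¹ᵁ W)),
    Y.presheaf.map i.op (n W hW s) =
      n W' hW' (X.presheaf.map ((Opens.map π.base).map i).op s)
  app : ∀ (W : Y.Opens) (hW : W ∈ B) (g : Γ(Y, W)), n W hW (π.app W g) = g ^ d
  unit : ∀ (W : Y.Opens) (hW : W ∈ B) (s : Γ(X, π ⁻¹ᵁ W)), IsUnit (n W hW s) → IsUnit s

variable {π : X ⟶ Y} {d : ℕ} (L : LocalNorm π d)

lemma eq_of_basis {U : Y.Opens} (t t' : Γ(Y, U))
    (h : ∀ W ∈ L.B, ∀ i : W ⟶ U, Y.presheaf.map i.op t = Y.presheaf.map i.op t') : t = t' := by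
  apply TopCat.Presheaf.section_ext Y.sheaf
  intro y hy
  obtain ⟨W, hWB, hyW, hWU⟩ := L.basis U y hy
  have e := h W hWB (homOfLE hWU)
  have g : ∀ t : Γ(Y, U), Y.presheaf.germ U y hy t =
      Y.presheaf.germ W y hyW (Y.presheaf.map (homOfLE hWU).op t) :=
    fun t => (Y.presheaf.germ_res_apply (homOfLE hWU) y hyW t).symm
  show Y.presheaf.germ U y hy t = Y.presheaf.germ U y hy t'
  rw [g, g, e]

lemma resX_comp {U V W : Y.Opens} (i : W ⟶ V) (j : V ⟶ U) (s : Γ(X, π ⁻¹ᵁ U)) :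
    X.presheaf.map ((Opens.map π.base).map i).op (X.presheaf.map ((Opens.map π.base).map j).op s)
      = X.presheaf.map ((Opens.map π.base).map (i ≫ j)).op s := by
  rw [← ConcreteCategory.comp_apply, ← Functor.map_comp, ← op_comp, ← Functor.map_comp]

lemma resY_comp {U V W : Y.Opens} (i : W ⟶ V) (j : V ⟶ U) (t : Γ(Y, U)) :
    Y.presheaf.map i.op (Y.presheaf.map j.op t) = Y.presheaf.map (i ≫ j).op t := by
  rw [← ConcreteCategory.comp_apply, ← Functor.map_comp, ← op_comp]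

lemma exists_norm (U : Y.Opens) (s : Γ(X, π ⁻¹ᵁ U)) :
    ∃ t : Γ(Y, U), ∀ (W : Y.Opens) (hW : W ∈ L.B) (i : W ⟶ U),
      Y.presheaf.map i.op t = L.n W hW (X.presheaf.map ((Opens.map π.base).map i).op s) := by
  let I := {W : Y.Opens // W ∈ L.B ∧ W ≤ U}
  let Wf : I → Y.Opens := fun W => W.1
  let iWU : ∀ W : I, Wf W ⟶ U := fun W => homOfLE W.2.2
  let sf : ∀ W : I, Γ(Y, Wf W) := fun W =>
    L.n W.1 W.2.1 (X.presheaf.map ((Opens.map π.base).map (iWU W)).op s)
  have hcover : U ≤ iSup Wf := by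
    intro y hy
    obtain ⟨W, hWB, hyW, hWU⟩ := L.basis U y hy
    exact Opens.mem_iSup.mpr ⟨⟨W, hWB, hWU⟩, hyW⟩
  have ic : TopCat.Presheaf.IsCompatible Y.presheaf Wf sf := by
    intro W₁ W₂
    apply eq_of_basis L
    intro W₃ hW₃ i
    rw [resY_comp, resY_comp, L.res _ _ W₁.2.1 hW₃, L.res _ _ W₂.2.1 hW₃, resX_comp, resX_comp]
    congr 3
  obtain ⟨t, ht, -⟩ := Y.sheaf.existsUnique_gluing' Wf U iWU hcover sf ic
  refine ⟨t, fun W hW i => ?_⟩
  exact ht ⟨W, hW, i.le⟩

noncomputable def normFun (U : Y.Opens) (s : Γ(X, π ⁻¹ᵁ U)) : Γ(Y, U) :=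
  (exists_norm L U s).choose

lemma normFun_spec (U : Y.Opens) (s : Γ(X, π ⁻¹ᵁ U)) (W : Y.Opens) (hW : W ∈ L.B) (i : W ⟶ U) :
    Y.presheaf.map i.op (normFun L U s) =
      L.n W hW (X.presheaf.map ((Opens.map π.base).map i).op s) :=
  (exists_norm L U s).choose_spec W hW i

noncomputable def normHom (U : Y.Opens) : Γ(X, π ⁻¹ᵁ U) →* Γ(Y, U) where
  toFun := normFun L U
  map_one' := by
    apply eq_of_basis L
    intro W hW i
    rw [normFun_spec L U 1 W hW i, map_one, map_one, map_one]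
  map_mul' := by
    intro s s'
    apply eq_of_basis L
    intro W hW i
    rw [normFun_spec L U _ W hW i, map_mul, map_mul, map_mul, normFun_spec L U s W hW i,
      normFun_spec L U s' W hW i]

lemma app_res {U W : Y.Opens} (i : W ⟶ U) (a : Γ(Y, U)) :
    π.app W (Y.presheaf.map i.op a) =
      X.presheaf.map ((Opens.map π.base).map i).op (π.app U a) := by
  have := π.naturality i.op
  exact congr($this a)

/-- Local norm data glue to a norm of degree `d`. -/
noncomputable def normOfDegree (hd : 1 ≤ d) : Nrm.NormOfDegree π d where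
  one_le := hd
  norm := normHom L
  norm_res := by
    intro U V j s
    show Y.presheaf.map j.op (normFun L U s) = normFun L V _
    apply eq_of_basis L
    intro W hW i
    rw [resY_comp, normFun_spec L U s W hW, normFun_spec L V _ W hW, resX_comp]
  norm_app := by
    intro U g
    show normFun L U (π.app U g) = g ^ d
    apply eq_of_basis L
    intro W hW i
    rw [normFun_spec L U _ W hW, ← app_res, L.app, map_pow]
  norm_mem := by
    intro U s x hx hmem
    rw [IsLocalRing.mem_maximalIdeal, mem_nonunits_iff] at hmem ⊢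
    intro hu
    apply hmem
    obtain ⟨V, iVU, hxV, hV⟩ :=
      Y.toRingedSpace.isUnit_res_of_isUnit_germ U (normFun L U s) (π.base x) hx hu
    obtain ⟨W, hWB, hxW, hWV⟩ := L.basis V (π.base x) hxV
    have h1 : IsUnit (Y.presheaf.map (homOfLE hWV ≫ iVU).op (normFun L U s)) := by
      rw [← resY_comp]
      exact hV.map (Y.presheaf.map (homOfLE hWV).op).hom
    rw [normFun_spec L U s W hWB] at h1
    have h2 := L.unit W hWB _ h1
    have h3 := h2.map (X.presheaf.germ (π ⁻¹ᵁ W) x hxW).hom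
    have e : (X.presheaf.germ (π ⁻¹ᵁ W) x hxW).hom
        (X.presheaf.map ((Opens.map π.base).map (homOfLE hWV ≫ iVU)).op s) =
        X.presheaf.germ (π ⁻¹ᵁ U) x hx s :=
      X.presheaf.germ_res_apply ((Opens.map π.base).map (homOfLE hWV ≫ iVU)) x hxW s
    rwa [e] at h3

theorem hasNorm (L : LocalNorm π d) (hd : 1 ≤ d) : Nrm.HasNorm π d := ⟨normOfDegree L hd⟩

end Groth.Agent.H5.NrmGlue
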