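import Groth.Agent.Lib.Helper5.Nrm.D
import Groth.Agent.Lib.Helper6.Cov1

set_option autoImplicit false
set_option linter.style.haveILetI false
universe u
open CategoryTheory CategoryTheory.Limits AlgebraicGeometry TopologicalSpace Opposite
open SDiv

namespace Groth.Agent.H5.NrmFree

open Groth.Agent.H5.NrmGlue Groth.Agent.LD.QC

/-- Algebraic core: bases and norms are compatible with localisation away from an element. -/
lemma alg_norm_loc {d : ℕ} {R S R' S' : Type u} [CommRing R] [CommRing S] [CommRing R']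
    [CommRing S'] (φ : R →+* S) (φ' : R' →+* S') (ρ : R →+* R') (σ : S →+* S')
    (hcomm : σ.comp φ = φ'.comp ρ) (f : R)
    (h1 : @IsLocalization.Away R _ f R' _ ρ.toAlgebra)
    (h2 : @IsLocalization.Away S _ (φ f) S' _ σ.toAlgebra)
    (b : @Module.Basis (Fin d) R S _ _ φ.toAlgebra.toModule) :
    Nonempty (@Module.Basis (Fin d) R' S' _ _ φ'.toAlgebra.toModule) ∧
    ∀ s : S, (@Algebra.norm R' S' _ _ φ'.toAlgebra (σ s)) =
      ρ (@Algebra.norm R S _ _ φ.toAlgebra s) := by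
  letI := φ.toAlgebra
  letI := φ'.toAlgebra
  letI := ρ.toAlgebra
  letI := σ.toAlgebra
  letI : Algebra R S' := (φ'.comp ρ).toAlgebra
  haveI : IsScalarTower R R' S' := IsScalarTower.of_algebraMap_eq (fun x => rfl)
  haveI : IsScalarTower R S S' :=
    IsScalarTower.of_algebraMap_eq (fun x => (congr($hcomm x)).symm)
  haveI : IsLocalization (Submonoid.powers f) R' := h1
  haveI : IsLocalization (Algebra.algebraMapSubmonoid S (Submonoid.powers f)) S' := by
    rw [Algebra.algebraMapSubmonoid_powers]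
    exact h2
  haveI : Module.Free R S := Module.Free.of_basis b
  haveI : Module.Finite R S := Module.Finite.of_basis b
  refine ⟨⟨b.localizationLocalization R' (Submonoid.powers f) S'⟩, fun s => ?_⟩
  exact Algebra.norm_localization R (Submonoid.powers f) s

variable {X Y : Scheme.{u}} (π : X ⟶ Y) (d : ℕ)

/-- Good opens: affine, with a basis of size `d` of `Γ(X, π⁻¹W)` over `Γ(Y, W)`. -/
def Good (W : Y.Opens) : Prop :=
  IsAffineOpen W ∧
    Nonempty (@Module.Basis (Fin d) Γ(Y, W) Γ(X, π ⁻¹ᵁ W) _ _ (π.app W).hom.toAlgebra.toModule)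

/-- The local norm. -/
noncomputable def nrm (W : Y.Opens) : Γ(X, π ⁻¹ᵁ W) →* Γ(Y, W) :=
  @Algebra.norm Γ(Y, W) Γ(X, π ⁻¹ᵁ W) _ _ (π.app W).hom.toAlgebra

variable {π d}

lemma basicOpen_aux [IsAffineHom π] {W : Y.Opens} (hW : Good π d W) (f : Γ(Y, W)) (V : Y.Opens)
    (e : V = Y.basicOpen f) (i : V ⟶ W) :
    Good π d V ∧ ∀ s : Γ(X, π ⁻¹ᵁ W), Y.presheaf.map i.op (nrm π W s) =
      nrm π V (X.presheaf.map ((Opens.map π.base).map i).op s) := by
  obtain ⟨hWa, ⟨b⟩⟩ := hW
  have hcomm : (X.presheaf.map ((Opens.map π.base).map i).op).hom.comp (π.app W).hom =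
      (π.app V).hom.comp (Y.presheaf.map i.op).hom := by
    have := π.naturality i.op
    ext x
    exact (congr($this x)).symm
  have h1 := hWa.isLocalization_of_eq_basicOpen f i e
  have h2 := (hWa.preimage π).isLocalization_of_eq_basicOpen (π.app W f)
    ((Opens.map π.base).map i) (by rw [e, Scheme.preimage_basicOpen])
  obtain ⟨hb, hn⟩ := alg_norm_loc (π.app W).hom (π.app V).hom (Y.presheaf.map i.op).hom
    (X.presheaf.map ((Opens.map π.base).map i).op).hom hcomm f h1 h2 b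
  refine ⟨⟨e ▸ hWa.basicOpen f, hb⟩, fun s => ?_⟩
  exact (hn s).symm

lemma nrm_app {W : Y.Opens} (hW : Good π d W) (g : Γ(Y, W)) : nrm π W (π.app W g) = g ^ d := by
  obtain ⟨-, ⟨b⟩⟩ := hW
  letI := (π.app W).hom.toAlgebra
  have := Algebra.norm_algebraMap_of_basis b g
  rw [Fintype.card_fin] at this
  exact this

lemma nrm_unit {W : Y.Opens} (hW : Good π d W) (s : Γ(X, π ⁻¹ᵁ W)) (h : IsUnit (nrm π W s)) :
    IsUnit s := by
  classical
  obtain ⟨-, ⟨b⟩⟩ := hW
  letI := (π.app W).hom.toAlgebra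
  have h' : IsUnit (LinearMap.det (Algebra.lmul Γ(Y, W) Γ(X, π ⁻¹ᵁ W) s)) := by
    rw [← Algebra.norm_apply]; exact h
  rw [← LinearMap.det_toMatrix b] at h'
  let e := LinearEquiv.ofIsUnitDet (v := b) (v' := b) h'
  obtain ⟨t, ht⟩ := e.surjective 1
  have : s * t = 1 := by simpa [e] using ht
  exact IsUnit.of_mul_eq_one t this


lemma exists_good [IsFinite π] [Flat π] [LocallyOfFinitePresentation π]
    (hrk : ∀ y : Y, π.finrank y = d) (U : Y.Opens) (y : Y) (hy : y ∈ U) :
    ∃ W : Y.Opens, Good π d W ∧ y ∈ W ∧ W ≤ U := by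
  obtain ⟨haff, hlf⟩ := (affine_finLocFree_pushforward_iff π).mpr
    ⟨inferInstance, inferInstance, inferInstance⟩
  haveI := qc_of_isFinLocFree _ hlf
  obtain ⟨V, n, hV, hyV, ⟨ℓ⟩⟩ := (isFinLocFree_iff _).mp hlf y
  have hn : n = d := by
    rw [← Groth.Agent.H6.Cov.finrank_eq_of_equiv π V hV y hyV n ℓ, hrk y]
  subst hn
  have hgood : Good π n V := by
    refine ⟨hV, ⟨?_⟩⟩
    letI := (π.app V).hom.toAlgebra
    exact Module.Basis.ofEquivFun ((pushUnitEquiv π V).symm ≪≫ₗ ℓ)
  obtain ⟨f, hfU, hyf⟩ := hV.exists_basicOpen_le ⟨y, hy⟩ hyV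
  refine ⟨Y.basicOpen f, ?_, hyf, hfU⟩
  exact (basicOpen_aux hgood f _ rfl (homOfLE (Y.basicOpen_le f))).1

/-- The local norm data of a finite locally free morphism of constant rank `d`. -/
noncomputable def localNorm [IsFinite π] [Flat π] [LocallyOfFinitePresentation π]
    (hrk : ∀ y : Y, π.finrank y = d) : LocalNorm π d where
  B := {W | Good π d W}
  basis := by
    intro U y hy
    obtain ⟨W, hW, hyW, hWU⟩ := exists_good hrk U y hy
    exact ⟨W, hW, hyW, hWU⟩
  n := fun W _ => nrm π W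
  res := by
    intro W W' hW hW' i s
    apply TopCat.Presheaf.section_ext Y.sheaf
    intro y hy
    obtain ⟨f, g, hfg, hyf⟩ := exists_basicOpen_le_affine_inter hW.1 hW'.1 y ⟨i.le hy, hy⟩
    have hyg : y ∈ Y.basicOpen g := hfg ▸ hyf
    let j : Y.basicOpen g ⟶ W' := homOfLE (Y.basicOpen_le g)
    have e1 := (basicOpen_aux hW f (Y.basicOpen g) hfg.symm (j ≫ i)).2 s
    have e2 := (basicOpen_aux hW' g (Y.basicOpen g) rfl j).2
      (X.presheaf.map ((Opens.map π.base).map i).op s)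
    rw [resX_comp] at e2
    have g1 : ∀ t : Γ(Y, W'), Y.presheaf.germ W' y hy t =
        Y.presheaf.germ (Y.basicOpen g) y hyg (Y.presheaf.map j.op t) :=
      fun t => (Y.presheaf.germ_res_apply j y hyg t).symm
    show Y.presheaf.germ W' y hy _ = Y.presheaf.germ W' y hy _
    rw [g1, g1, e2, resY_comp, e1]
  app := fun W hW g => nrm_app hW g
  unit := fun W hW s h => nrm_unit hW s h

theorem main (π : X ⟶ Y) (d : ℕ) (hd : 1 ≤ d) (hπ : Mor2.IsFinLocFreeOfDeg d π) :
    Nrm.HasNorm π d := by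
  obtain ⟨⟨hfin, hflat, hfp⟩, hrk⟩ := hπ
  exact hasNorm (localNorm hrk) hd

end Groth.Agent.H5.NrmFree
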