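import Groth.Agent.Lib.Helper5.Nrm.E
import Groth.Agent.Lib.Helper5.Nrm.A

set_option autoImplicit false
set_option linter.style.haveILetI false
universe u
open CategoryTheory CategoryTheory.Limits AlgebraicGeometry TopologicalSpace Opposite
open SDiv

namespace Groth.Agent.H5.NrmFree

open Groth.Agent.H5.NrmGlue Groth.Agent.LD.QC

variable {X Y : Scheme.{u}} {π : X ⟶ Y}

/-- restriction compatibility of local norms between good opens of the same rank -/
lemma nrm_res [IsAffineHom π] {d : ℕ} {W W' : Y.Opens} (hW : Good π d W) (hW' : Good π d W')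
    (i : W' ⟶ W) (s : Γ(X, π ⁻¹ᵁ W)) :
    Y.presheaf.map i.op (nrm π W s) =
      nrm π W' (X.presheaf.map ((Opens.map π.base).map i).op s) := by
  apply TopCat.Presheaf.section_ext Y.sheaf
  intro y hy
  obtain ⟨f, g, hfg, hyf⟩ := exists_basicOpen_le_affine_inter hW.1 hW'.1 y ⟨i.le hy, hy⟩
  have hyg : y ∈ Y.basicOpen g := hfg ▸ hyf
  let j : Y.basicOpen g ⟶ W' := homOfLE (Y.basicOpen_le g)
  have e1 := (basicOpen_aux hW f (Y.basicOpen g) hfg.symm (j ≫ i)).2 s
  have e2 := (basicOpen_aux hW' g (Y.basicOpen g) rfl j).2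
    (X.presheaf.map ((Opens.map π.base).map i).op s)
  rw [resX_comp] at e2
  have g1 : ∀ t : Γ(Y, W'), Y.presheaf.germ W' y hy t =
      Y.presheaf.germ (Y.basicOpen g) y hyg (Y.presheaf.map j.op t) :=
    fun t => (Y.presheaf.germ_res_apply j y hyg t).symm
  show Y.presheaf.germ W' y hy _ = Y.presheaf.germ W' y hy _
  rw [g1, g1, e2, resY_comp, e1]

lemma exists_good' [IsFinite π] [Flat π] [LocallyOfFinitePresentation π] (U : Y.Opens) (y : Y)
    (hy : y ∈ U) :
    ∃ (W : Y.Opens) (d : ℕ), Good π d W ∧ y ∈ W ∧ W ≤ U ∧ ∀ z ∈ W, π.finrank z = d := by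
  obtain ⟨haff, hlf⟩ := (affine_finLocFree_pushforward_iff π).mpr
    ⟨inferInstance, inferInstance, inferInstance⟩
  haveI := qc_of_isFinLocFree _ hlf
  obtain ⟨V, n, hV, hyV, ⟨ℓ⟩⟩ := (isFinLocFree_iff _).mp hlf y
  have hn : ∀ z ∈ V, π.finrank z = n := fun z hz =>
    Groth.Agent.H6.Cov.finrank_eq_of_equiv π V hV z hz n ℓ
  have hgood : Good π n V := by
    refine ⟨hV, ⟨?_⟩⟩
    letI := (π.app V).hom.toAlgebra
    exact Module.Basis.ofEquivFun ((pushUnitEquiv π V).symm ≪≫ₗ ℓ)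
  obtain ⟨f, hfU, hyf⟩ := hV.exists_basicOpen_le ⟨y, hy⟩ hyV
  refine ⟨Y.basicOpen f, n, ?_, hyf, hfU, fun z hz => hn z (Y.basicOpen_le f hz)⟩
  exact (basicOpen_aux hgood f _ rfl (homOfLE (Y.basicOpen_le f))).1

/-- Local norm data of degree `D` when every local rank divides `D`. -/
noncomputable def localNormVar [IsFinite π] [Flat π] [LocallyOfFinitePresentation π] (D : ℕ)
    (hD0 : D ≠ 0) (hD : ∀ y : Y, π.finrank y ∣ D) : LocalNorm π D where
  B := {W | Nonempty W ∧ ∃ d, Good π d W ∧ ∀ z ∈ W, π.finrank z = d}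
  basis := by
    intro U y hy
    obtain ⟨W, d, hW, hyW, hWU, hr⟩ := exists_good' (π := π) U y hy
    exact ⟨W, ⟨⟨⟨y, hyW⟩⟩, d, hW, hr⟩, hyW, hWU⟩
  n := fun W hW => (powMonoidHom (D / hW.2.choose)).comp (nrm π W)
  res := by
    intro W W' hW hW' i s
    obtain ⟨⟨z, hz⟩⟩ := hW'.1
    have h1 := hW.2.choose_spec
    have h2 := hW'.2.choose_spec
    have hdd : hW'.2.choose = hW.2.choose := by
      rw [← h2.2 z hz, ← h1.2 z (i.le hz)]
    show Y.presheaf.map i.op ((nrm π W s) ^ (D / hW.2.choose)) =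
      (nrm π W' _) ^ (D / hW'.2.choose)
    rw [map_pow, hdd]
    congr 1
    exact nrm_res h1.1 (hdd ▸ h2.1) i s
  app := by
    intro W hW g
    obtain ⟨⟨z, hz⟩⟩ := hW.1
    have h1 := hW.2.choose_spec
    show (nrm π W (π.app W g)) ^ (D / hW.2.choose) = g ^ D
    rw [nrm_app h1.1, ← pow_mul, Nat.mul_div_cancel']
    rw [← h1.2 z hz]; exact hD z
  unit := by
    intro W hW s h
    obtain ⟨⟨z, hz⟩⟩ := hW.1
    have h1 := hW.2.choose_spec
    have hdvd : hW.2.choose ∣ D := by rw [← h1.2 z hz]; exact hD z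
    have hne : D / hW.2.choose ≠ 0 := by
      obtain ⟨c, hc⟩ := hdvd
      have hd0 : hW.2.choose ≠ 0 := by
        intro h0; rw [h0, zero_mul] at hc; exact hD0 hc
      rw [hc, Nat.mul_div_cancel_left _ (Nat.pos_of_ne_zero hd0)]
      intro hc0; rw [hc0, mul_zero] at hc; exact hD0 hc
    have h2 : IsUnit ((nrm π W s) ^ (D / hW.2.choose)) := h
    exact nrm_unit h1.1 s ((isUnit_pow_iff hne).mp h2)

/-- finite locally free surjective morphisms from quasi-affine schemes have quasi-affine target -/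
theorem isQuasiAffine_of_finLocFree (π : X ⟶ Y) [IsFinite π] [Surjective π] [Flat π]
    [LocallyOfFinitePresentation π] (hX : X.IsQuasiAffine) : Y.IsQuasiAffine := by
  classical
  haveI : CompactSpace Y := π.surjective.compactSpace π.continuous
  have hlc := Scheme.Hom.isLocallyConstant_finrank π
  have hfin : (Set.range π.finrank).Finite := hlc.range_finite
  let D : ℕ := ∏ v ∈ hfin.toFinset, v
  have hpos : ∀ y : Y, 1 ≤ π.finrank y := by
    intro y
    obtain ⟨x, rfl⟩ := π.surjective y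
    exact Scheme.Hom.one_le_finrank_map π x
  have hD0 : D ≠ 0 := by
    apply Finset.prod_ne_zero_iff.mpr
    intro v hv
    obtain ⟨y, rfl⟩ := (Set.Finite.mem_toFinset hfin).mp hv
    exact Nat.one_le_iff_ne_zero.mp (hpos y)
  have hD : ∀ y : Y, π.finrank y ∣ D :=
    fun y => Finset.dvd_prod_of_mem _ ((Set.Finite.mem_toFinset hfin).mpr ⟨y, rfl⟩)
  have hN : Nrm.HasNorm π D :=
    hasNorm (localNormVar D hD0 hD) (Nat.one_le_iff_ne_zero.mpr hD0)
  exact Groth.Agent.H5.NrmQA.main π D hN hX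

end Groth.Agent.H5.NrmFree
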