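import Mathlib
import Groth.Agent.Lib.Helper5.Nrm.I
import Groth.Agent.Lib.Helper5.Nrm.F
import Groth.Agent.Lib.Lead.QC.IntegralSub
import Groth.Agent.Lib.Lead.PN.AmpleDev

/-! # Descent of ample modules along finite surjective morphisms onto normal integral schemes. -/

set_option autoImplicit false
universe u
open CategoryTheory Limits AlgebraicGeometry TopologicalSpace Opposite

namespace Groth.Agent.H5.NrmAmple

open Groth.Agent.LD Groth.Agent.LD.QC

variable {X Y : Scheme.{u}}

theorem exists_isAmple_of_finite_surjective_normal (π : X ⟶ Y) [IsFinite π] [Surjective π]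
    [IsIntegral Y] (hY : Pi1.IsNormalScheme Y) (L : X.Modules) (hL : CohB1.IsAmple L) :
    ∃ M : Y.Modules, CohB1.IsAmple M := by
  obtain ⟨x₀, hx₀⟩ := π.surjective (genericPoint Y)
  let Z : Closeds X := ⟨closure {x₀}, isClosed_closure⟩
  have hirr : IsIrreducible (Z : Set X) := isIrreducible_singleton.closure
  haveI : IsIntegral (redSub Z) := isIntegral_redSub Z hirr
  let i : redSub Z ⟶ X := redSubι Z
  haveI : IsFinite (i ≫ π) := inferInstance
  haveI : Surjective (i ≫ π) := by
    constructor
    rw [← Set.range_eq_univ]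
    have hcl : IsClosed (Set.range (i ≫ π)) := (i ≫ π).isClosedMap.isClosed_range
    have hmem : genericPoint Y ∈ Set.range (i ≫ π) := by
      have hx₀Z : x₀ ∈ Set.range i := by
        rw [range_redSubι]
        exact subset_closure rfl
      obtain ⟨z, hz⟩ := hx₀Z
      refine ⟨z, ?_⟩
      rw [Scheme.Hom.comp_apply, hz, hx₀]
    have h1 : closure {genericPoint Y} ⊆ Set.range (i ≫ π) :=
      hcl.closure_subset_iff.mpr (Set.singleton_subset_iff.mpr hmem)
    rw [(genericPoint_spec Y).def] at h1
    exact Set.univ_subset_iff.mp h1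
  obtain ⟨d, ⟨N⟩⟩ := Groth.Agent.H5.NrmNormal.main (i ≫ π) hY
  have hL' : CohB1.IsAmple ((Scheme.Modules.pullback i).obj L) :=
    Groth.Agent.LD.PN.AmD.isAmple_pullback_of_isAffineHom i L hL
  exact exists_isAmple_of_norm N _ hL'

end Groth.Agent.H5.NrmAmple
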