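import Mathlib
import Groth.Agent.Lib.Helper5.Nrm.I
import Groth.Agent.Lib.Helper5.Glue.P2
import Groth.Agent.Lib.Helper5.IntN.Nak2
import Groth.Agent.Lib.Lead.QC.AmpleIso
import Groth.Agent.Lib.Lead.QC.PullInv

/-! # Descent of ampleness of a given module along a finite morphism with a norm. -/

set_option autoImplicit false
universe u
open CategoryTheory Limits AlgebraicGeometry TopologicalSpace Opposite

namespace Groth.Agent.H5.NrmAmple

open Groth.Agent.LD Groth.Agent.LD.QC Groth.Agent.H5.Glue Groth.Agent.H5.NrmQA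

variable {X Y : Scheme.{u}} {π : X ⟶ Y}

/-- the norm module (for given local bases) of an ample module is ample. -/
theorem isAmple_normMod [IsFinite π] {d : ℕ} (N : Nrm.NormOfDegree π d) {L : X.Modules}
    {W : Y → Y.Opens} {e : ∀ y, Γ(L, π ⁻¹ᵁ W y)} (he : ∀ y, IsBasisOver L (π ⁻¹ᵁ W y) (e y))
    (hyW : ∀ y, y ∈ W y) (hL : CohB1.IsAmple L) : CohB1.IsAmple (normMod N he) := by
  classical
  obtain ⟨hLinv, hXc, hLamp⟩ := hL
  haveI := hXc
  haveI : X.IsSeparated := QC.isSeparated_of_affine_genLocus L hLinv hLamp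
  have hcov : iSup W = ⊤ := by
    rw [eq_top_iff]
    intro y _
    exact Opens.mem_iSup.mpr ⟨y, hyW y⟩
  refine ⟨isInvertible_normMod N he hcov, ?_, ?_⟩
  · exact (surjective_of_norm N).compactSpace π.continuous
  · intro y₀
    obtain ⟨V₀, hV₀, hyV₀⟩ : ∃ V : Y.Opens, IsAffineOpen V ∧ y₀ ∈ V := by
      obtain ⟨_, ⟨V, hV, rfl⟩, hyV, -⟩ :=
        Y.isBasis_affineOpens.exists_subset_of_mem_open (Set.mem_univ y₀) isOpen_univ
      exact ⟨V, hV, hyV⟩
    have hfin : (π.base ⁻¹' {y₀}).Finite := π.finite_preimage_singleton y₀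
    obtain ⟨n, t, hZt, htU, -⟩ := QC.exists_affine_genLocus_finset L ⟨hLinv, hXc, hLamp⟩ _
      hfin.toFinset rfl (π ⁻¹ᵁ V₀) (by
        intro z hz
        have hz' : π.base z = y₀ := by simpa using hz
        show π.base z ∈ V₀
        rw [hz']
        exact hyV₀)
    obtain ⟨σ, hσ⟩ := exists_normSec N he t hcov
    refine ⟨n, σ, mem_genLocus_normSec hσ hyW y₀ ?_, ?_⟩
    · intro x hx
      exact hZt x (by simpa using hx)
    · have hle := genLocus_normSec_le hσ hyW V₀ htU
      have haff := QC.isAffineOpen_genLocus_inf _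
        (QC.isInvertible_tensorPow (isInvertible_normMod N he hcov) (n + 1)) σ hV₀
      rwa [inf_eq_left.mpr hle] at haff

/-- **descent of ampleness**: if `π : X ⟶ Y` is finite with a norm and `π^* L` is ample for an
invertible module `L` on `Y`, then `L` is ample. -/
theorem isAmple_of_isAmple_pullback [IsFinite π] {d : ℕ} (N : Nrm.NormOfDegree π d)
    (L : Y.Modules) (hL : PicF.IsInvertible L)
    (h : CohB1.IsAmple ((Scheme.Modules.pullback π).obj L)) : CohB1.IsAmple L := by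
  classical
  haveI : L.IsQuasicoherent := QC.qc_of_isInvertible L hL
  have hloc := (QC.isInvertible_iff_exists_isBasisOver L).mp hL
  choose W ε hyW hε using hloc
  let e : ∀ y, Γ((Scheme.Modules.pullback π).obj L, π ⁻¹ᵁ W y) := fun y =>
    QC.pbSec π L (le_refl (π ⁻¹ᵁ W y)) (ε y)
  have he : ∀ y, IsBasisOver ((Scheme.Modules.pullback π).obj L) (π ⁻¹ᵁ W y) (e y) := fun y =>
    (hε y).pullback π (le_refl (π ⁻¹ᵁ W y))
  have hcov : iSup W = ⊤ := by
    rw [eq_top_iff]
    intro y _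
    exact Opens.mem_iSup.mpr ⟨y, hyW y⟩
  have hA := isAmple_normMod N he hyW h
  have hpre : ∀ y y', π ⁻¹ᵁ W y ⊓ π ⁻¹ᵁ W y' ≤ π ⁻¹ᵁ (W y ⊓ W y') := fun y y' _ h => h
  have hτ : ∀ y y', transition he y y' =
      (π.appLE (W y ⊓ W y') (π ⁻¹ᵁ W y ⊓ π ⁻¹ᵁ W y') (hpre y y')).hom (transition hε y y') := by
    intro y y'
    symm
    apply transition_unique he y y'
    have h1 := QC.pbSec_res π L (le_refl (π ⁻¹ᵁ W y)) (hpre y y')
      (inf_le_left : π ⁻¹ᵁ W y ⊓ π ⁻¹ᵁ W y' ≤ π ⁻¹ᵁ W y) (inf_le_left : W y ⊓ W y' ≤ W y) (ε y)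
    have h2 := QC.pbSec_res π L (le_refl (π ⁻¹ᵁ W y')) (hpre y y')
      (inf_le_right : π ⁻¹ᵁ W y ⊓ π ⁻¹ᵁ W y' ≤ π ⁻¹ᵁ W y') (inf_le_right : W y ⊓ W y' ≤ W y')
      (ε y')
    change mres _ _ (e y) = _ • mres _ _ (e y')
    change _ = mres _ _ (e y) at h1
    change _ = mres _ _ (e y') at h2
    rw [← h1, ← h2]
    have h3 := transition_spec hε y y'
    change L.presheaf.map _ (ε y) = _ at h3
    rw [h3, QC.pbSec_smul]
  have hη : ∀ y y', ηN N he y y' = transition hε y y' ^ d := by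
    intro y y'
    unfold ηN θ'
    rw [hτ, res_appLE, Scheme.Hom.appLE_eq_app]
    exact N.norm_app _ _
  obtain ⟨φ⟩ := nonempty_iso_of_same_transition hcov (isBasisOver_gen N he)
    (fun y => (hε y).secPow d) (ηN N he) (gen_transition N he) (by
      intro y y'
      have h3 := transition_spec hε y y'
      rw [hη]
      change (CohB1.tensorPow L d).presheaf.map _ (secPow (ε y) d) =
        _ • (CohB1.tensorPow L d).presheaf.map _ (secPow (ε y') d)
      rw [secPow_res, secPow_res]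
      change secPow (mres L _ (ε y)) d = _
      rw [h3, secPow_smul])
  have hA' : CohB1.IsAmple (CohB1.tensorPow L d) := QC.isAmple_of_iso φ hA
  exact Groth.Agent.H5.IntN.isAmple_of_isAmple_tensorPow hL d N.one_le hA'

end Groth.Agent.H5.NrmAmple
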