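import Mathlib
import Groth.Agent.Lib.Helper5.Nrm.K
import Groth.Agent.Lib.Helper5.Nrm.G
import Groth.Agent.Lib.Lead.QC.PullRel
import Groth.Agent.Lib.Lead.QC.LocFree3

/-! # Relative ampleness and finite locally free surjective morphisms (EGA II 6.6.2). -/

set_option autoImplicit false
universe u
open CategoryTheory Limits AlgebraicGeometry TopologicalSpace Opposite

namespace Groth.Agent.H5.NrmAmple

open Groth.Agent.LD Groth.Agent.LD.QC Groth.Agent.H5.NrmFree Groth.Agent.H5.NrmGlue

variable {X Y : Scheme.{u}}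

/-- a finite locally free surjective morphism onto a quasi-compact scheme has a norm. -/
theorem exists_hasNorm_of_finLocFree (π : X ⟶ Y) [IsFinite π] [Surjective π] [Flat π]
    [LocallyOfFinitePresentation π] [CompactSpace Y] : ∃ D : ℕ, Nrm.HasNorm π D := by
  classical
  have hlc := Scheme.Hom.isLocallyConstant_finrank π
  have hfin : (Set.range π.finrank).Finite := hlc.range_finite
  let D : ℕ := ∏ v ∈ hfin.toFinset, v
  have hpos : ∀ y : Y, 1 ≤ π.finrank y := by
    intro y
    obtain ⟨x, rfl⟩ := π.surjective y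
    exact Scheme.Hom.one_le_finrank_map π x
  have hD0 : D ≠ 0 := by
    apply Finset.prod_ne_zero_iff.mpr
    intro v hv
    obtain ⟨y, rfl⟩ := (Set.Finite.mem_toFinset hfin).mp hv
    exact Nat.one_le_iff_ne_zero.mp (hpos y)
  have hD : ∀ y : Y, π.finrank y ∣ D :=
    fun y => Finset.dvd_prod_of_mem _ ((Set.Finite.mem_toFinset hfin).mpr ⟨y, rfl⟩)
  exact ⟨D, hasNorm (localNormVar D hD0 hD) (Nat.one_le_iff_ne_zero.mpr hD0)⟩

/-- **EGA II 6.6.2**: for a finite surjective `g : X' ⟶ X` with `g_* O_{X'}` finite locally free,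
an invertible module `L` on `X` is ample relative to `f : X ⟶ Y` iff `g^* L` is ample relative
to `g ≫ f`. -/
theorem isRelAmple_iff_pullback {X X' Y : Scheme.{u}} (f : X ⟶ Y) [QuasiCompact f]
    (g : X' ⟶ X) [IsFinite g] [Surjective g]
    (hfree : FlatMod.IsFinLocFree ((Scheme.Modules.pushforward g).obj
      (SheafOfModules.unit X'.ringCatSheaf)))
    (L : X.Modules) (hL : PicF.IsInvertible L) :
    RelAmple.IsRelAmple f L ↔
      RelAmple.IsRelAmple (g ≫ f) ((Scheme.Modules.pullback g).obj L) := by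
  obtain ⟨-, hflat, hlfp⟩ := (QC.affine_finLocFree_pushforward_iff g).mp ⟨inferInstance, hfree⟩
  haveI := hflat
  haveI := hlfp
  constructor
  · intro h
    refine QC.isRelAmple_pullback_of_forall f g L (fun V => ?_)
    exact Groth.Agent.LD.PN.AmD.isAmple_pullback_of_isAffineHom (g ∣_ (f ⁻¹ᵁ V.1)) _ (h.2 V)
  · intro h
    refine ⟨inferInstance, fun V => ?_⟩
    let U : X.Opens := f ⁻¹ᵁ V.1
    have hV := h.2 V
    have hV' : CohB1.IsAmple (((Scheme.Modules.pullback g).obj L).restrict (g ⁻¹ᵁ U).ι) := hV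
    have hA : CohB1.IsAmple ((Scheme.Modules.pullback (g ∣_ U)).obj (L.restrict U.ι)) :=
      QC.isAmple_of_iso (QC.pullbackMorphismRestrictIso g U L) hV'
    haveI : CompactSpace (↑U : Scheme.{u}) :=
      isCompact_iff_compactSpace.mp
        (QuasiCompact.isCompact_preimage (f := f) _ V.1.2 V.2.isCompact)
    haveI : IsFinite (g ∣_ U) :=
      MorphismProperty.of_isPullback (isPullback_morphismRestrict g U).flip ‹IsFinite g›
    haveI : Surjective (g ∣_ U) :=
      MorphismProperty.of_isPullback (isPullback_morphismRestrict g U).flip ‹Surjective g›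
    haveI : Flat (g ∣_ U) :=
      MorphismProperty.of_isPullback (isPullback_morphismRestrict g U).flip ‹Flat g›
    haveI : LocallyOfFinitePresentation (g ∣_ U) :=
      MorphismProperty.of_isPullback (isPullback_morphismRestrict g U).flip
        ‹LocallyOfFinitePresentation g›
    obtain ⟨D, ⟨N⟩⟩ := exists_hasNorm_of_finLocFree (g ∣_ U)
    exact isAmple_of_isAmple_pullback N (L.restrict U.ι) (QC.isInvertible_restrict U.ι hL) hA

end Groth.Agent.H5.NrmAmple
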